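import Cfsg.Agent.MaxSub.SubfieldHerm.Spread

/-!
An irrational transvection with a large rational orthogonal gives everything.
-/

set_option autoImplicit false

namespace Cfsg.Agent.MaxSub.SubfieldHerm

open Matrix Cfsg.Agent.HermStab
open scoped Classical

variable {ι : Type} [Fintype ι] [DecidableEq ι] {F : Type*} [Field F]
variable {σ : F ≃+* F} {f : (ι → F) → (ι → F) → F} {F₀ : Subfield F} {L : Subgroup (GL ι F)}
variable (D : Data σ f F₀ L)

/-- The values of a vector on rational vectors, as an `F₀`-linear map. -/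
noncomputable def val (u : ι → F) : (ι → F₀) →ₗ[F₀] F where
  toFun x := f (emb x) u
  map_add' x y := D.hf.add_left _ _ _
  map_smul' c x := by
    show f ((c : F) • emb x) u = c • f (emb x) u
    rw [D.hf.smul_left]; rfl

theorem val_apply (u : ι → F) (x : ι → F₀) : val D u x = f (emb x) u := rfl

/-- The transvection at `u` is irrational. -/
def Irr (f : (ι → F) → (ι → F) → F) (F₀ : Subfield F) (u : ι → F) (c : F) : Prop :=
  ∃ x y : ι → F₀, c * f (emb x) u * f u (emb y) ∉ F₀

theorem finrank_perp_add [Finite F] {σ' : F ≃+* F} {g : (ι → F) → (ι → F) → F}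
    (hg : Geo.IsUnitaryForm σ' g) (U : Submodule F (ι → F)) :
    Module.finrank F (perp hg U) + Module.finrank F U = Fintype.card ι := by
  let b := Module.finBasis F U
  let Φ : (ι → F) →ₗ[F] (Fin (Module.finrank F U) → F) :=
    LinearMap.pi fun j => hl hg (b j : ι → F)
  have hli : LinearIndependent F fun j => (b j : ι → F) :=
    b.linearIndependent.map' U.subtype U.ker_subtype
  have hsur : LinearMap.range Φ = ⊤ := by
    refine eq_top_iff.mpr fun x _ => ?_
    rw [pi_eq_sum_univ' x]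
    refine sum_mem fun j _ => Submodule.smul_mem _ _ ?_
    obtain ⟨z, hz, hzS⟩ := exists_dual hg (hli.notMem_span_image (s := Set.univ \ {j}) (x := j)
      (by simp))
    refine ⟨z, funext fun i => ?_⟩
    by_cases hij : i = j
    · subst hij; simpa [Φ] using hz
    · simpa [Φ, Pi.single_eq_of_ne hij] using
        (hzS _ (Submodule.subset_span ⟨i, by simpa using hij, rfl⟩)).1
  have hker : perp hg U ≤ LinearMap.ker Φ := fun x hx =>
    funext fun j => (mem_perp hg).1 hx _ (b j).2
  have h1 := LinearMap.finrank_range_add_finrank_ker Φ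
  rw [hsur] at h1
  have h2 := Submodule.finrank_mono hker
  have h3 := card_le_perp hg U
  simp at h1
  omega

/-- An isotropic kernel vector whose orthogonal still carries the irrationality, seen by an
isotropic vector. -/
theorem exists_pair [Finite F] (hn : 6 ≤ Fintype.card ι) {u : ι → F} {c : F}
    (hirr : Irr f F₀ u c)
    (hd : Module.finrank F₀ (LinearMap.range (val D u)) + 2 ≤ Fintype.card ι) :
    ∃ e w v : ι → F₀, e ≠ 0 ∧ D.f₀ e e = 0 ∧ f (emb e) u = 0 ∧ D.f₀ w e = 0 ∧ D.f₀ v e = 0 ∧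
      D.f₀ v v = 0 ∧ c * f (emb w) u * f u (emb v) ∉ F₀ := by
  obtain ⟨x₀, y₀, hxy⟩ := hirr
  have hK := LinearMap.finrank_range_add_finrank_ker (val D u)
  rw [Module.finrank_pi] at hK
  set K := LinearMap.ker (val D u) with hKdef
  set d := Module.finrank F₀ (LinearMap.range (val D u))
  obtain ⟨e, w, z, he0, hee, heu, hwe, hze, hnr⟩ : ∃ e w z : ι → F₀, e ≠ 0 ∧ D.f₀ e e = 0 ∧
      f (emb e) u = 0 ∧ D.f₀ w e = 0 ∧ D.f₀ z e = 0 ∧ c * f (emb w) u * f u (emb z) ∉ F₀ := by
    by_cases h3 : 3 ≤ d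
    · obtain ⟨e, he, he0, hee⟩ := exists_iso_mem D.hf₀ (K := K) (by omega)
      set E := Submodule.span F₀ {e} with hE
      have hE1 : Module.finrank F₀ E = 1 := finrank_span_singleton he0
      have hpE := finrank_perp_add D.hf₀ E
      by_contra hall
      push Not at hall
      have hmem : ∀ x ∈ perp D.hf₀ E, D.f₀ x e = 0 := fun x hx =>
        (mem_perp D.hf₀).1 hx e (Submodule.mem_span_singleton_self e)
      by_cases hex : ∃ w ∈ perp D.hf₀ E, f (emb w) u ≠ 0 ∧ c ≠ 0
      · obtain ⟨w, hw, hw0, hc⟩ := hex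
        set s := σ (c * f (emb w) u) with hs
        have hs0 : s ≠ 0 := by rw [hs]; simp [hc, hw0]
        have hle : (perp D.hf₀ E).map (val D u) ≤ Submodule.span F₀ {s⁻¹} := by
          rintro _ ⟨z, hz, rfl⟩
          have hq := hall e w z he0 hee he (hmem w hw) (hmem z hz)
          refine Submodule.mem_span_singleton.2 ⟨D.σ₀ ⟨_, hq⟩, ?_⟩
          show (D.σ₀ ⟨_, hq⟩ : F) * s⁻¹ = f (emb z) u
          rw [D.σ₀_coe, map_mul, ← D.hf.herm, ← hs, mul_comm s, mul_assoc, mul_inv_cancel₀ hs0,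
            mul_one]
        have h5 := Submodule.finrank_mono hle
        rw [finrank_span_singleton (inv_ne_zero hs0)] at h5
        have h6 := LinearMap.finrank_range_add_finrank_ker ((val D u).comp (perp D.hf₀ E).subtype)
        rw [LinearMap.range_comp, Submodule.range_subtype] at h6
        have h7 : Module.finrank F₀
            (LinearMap.ker ((val D u).comp (perp D.hf₀ E).subtype)) ≤ Module.finrank F₀ K := by
          refine LinearMap.finrank_le_finrank_of_injective
            (f := LinearMap.codRestrict K ((perp D.hf₀ E).subtype.comp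
              (LinearMap.ker ((val D u).comp (perp D.hf₀ E).subtype)).subtype) (fun x => x.2)) ?_
          intro x y h
          exact Subtype.ext (Subtype.ext (congrArg Subtype.val h :))
        omega
      · push Not at hex
        have hc : c ≠ 0 := fun h => hxy (by rw [h, zero_mul, zero_mul]; exact zero_mem _)
        have hle : perp D.hf₀ E ≤ K := fun w hw => by
          by_contra hw'
          exact hc (hex w hw hw')
        have := Submodule.finrank_mono hle
        omega
    · have hpK := finrank_perp_add D.hf₀ K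
      have hinf := Submodule.finrank_mono (inf_le_left : perp D.hf₀ K ⊓ K ≤ _)
      obtain ⟨e, he, hen, hee⟩ :=
        exists_iso_notMem D.hf₀ (U := perp D.hf₀ K) (K := K) (by omega)
      obtain ⟨z₁, hz₁, hz₁e⟩ : ∃ z ∈ K, D.f₀ z e = 1 := by
        obtain ⟨z, hz, hze⟩ : ∃ z ∈ K, D.f₀ z e ≠ 0 := by
          by_contra h
          push Not at h
          exact hen ((mem_perp D.hf₀).2 fun z hz => hswap_zero D.hf₀ (h z hz))
        exact ⟨(D.f₀ z e)⁻¹ • z, K.smul_mem _ hz, by rw [D.hf₀.smul_left, inv_mul_cancel₀ hze]⟩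
      have hcorr : ∀ x : ι → F₀, ∃ x' : ι → F₀, D.f₀ x' e = 0 ∧
          f (emb x') u = f (emb x) u := by
        intro x
        refine ⟨x - D.f₀ x e • z₁, ?_, ?_⟩
        · rw [hsub_left D.hf₀, D.hf₀.smul_left, hz₁e]
          simp
        · have k1 : val D u z₁ = 0 := hz₁
          show val D u _ = val D u x
          rw [map_sub, map_smul, k1]
          simp
      obtain ⟨w, hw1, hw3⟩ := hcorr x₀
      obtain ⟨z, hz1, hz3⟩ := hcorr y₀
      refine ⟨e, w, z, fun h => hen (h ▸ zero_mem _), hee, he, hw1, hz1, ?_⟩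
      rw [hw3, D.hf.herm u, hz3, ← D.hf.herm]
      exact hxy
  -- isotropic vectors span the orthogonal
  refine ⟨e, w, ?_⟩
  by_contra hall
  push Not at hall
  have hspan : z ∉ Submodule.span F₀ {e} := fun hm => by
    obtain ⟨q, rfl⟩ := Submodule.mem_span_singleton.1 hm
    refine hnr ?_
    rw [emb_smul, hsmul_right D.hf, hswap_zero D.hf heu, mul_zero, mul_zero]
    exact zero_mem _
  have hs : Module.finrank F₀ (Submodule.span F₀ {e}) ≤ 1 := (finrank_span_singleton he0).le
  obtain ⟨g, hgz, hgg, hgU⟩ := exists_dual_iso D.hf₀ (Submodule.span F₀ {e}) hspan (by omega)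
  have hge := (hgU e (Submodule.mem_span_singleton_self e)).1
  obtain ⟨s, hs'⟩ := exists_trace D.hf₀ (r := -D.f₀ z z) (by rw [map_neg, ← D.hf₀.herm])
  have hy : D.f₀ (z + s • g) (z + s • g) = 0 := by
    rw [D.hf₀.add_left, hadd_right D.hf₀, hadd_right D.hf₀, D.hf₀.smul_left,
      hsmul_right D.hf₀, D.hf₀.smul_left, hsmul_right D.hf₀, hgg, hgz, D.hf₀.herm z g, hgz,
      map_one]
    linear_combination hs'
  have h1 := hall (z + s • g) he0 hee heu hwe
    (by rw [D.hf₀.add_left, D.hf₀.smul_left, hze, hge, mul_zero, add_zero]) hy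
  have h2 := hall g he0 hee heu hwe hge hgg
  refine hnr ?_
  have := sub_mem h1 (mul_mem (D.σ₀ s).2 h2)
  rwa [emb_add, emb_smul, hadd_right D.hf, hsmul_right D.hf, ← D.σ₀_coe, mul_add,
    mul_left_comm (c * f (emb w) u), add_sub_cancel_right] at this

theorem centres_of_pair [Fintype F] (hn : 6 ≤ Fintype.card ι)
    (htop : ∀ T : Subfield F, F₀ ≤ T → T = F₀ ∨ T = ⊤) {u : ι → F} (hu : f u u = 0) {c : F}
    (hc : c + σ c = 0) (hT : ut f u c ∈ L) {e w v : ι → F₀} (he0 : e ≠ 0)
    (hee : D.f₀ e e = 0) (heu : f (emb e) u = 0) (hwe : D.f₀ w e = 0) (hve : D.f₀ v e = 0)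
    (hvv : D.f₀ v v = 0) (hnr : c * f (emb w) u * f u (emb v) ∉ F₀) :
    ∀ x, f x x = 0 → Centre σ f L x := by
  have hfe := D.f_emb_zero hee
  have hfv := D.f_emb_zero hvv
  obtain ⟨b, hb⟩ := exists_trace D.hf₀ (r := -D.f₀ w w) (by rw [map_neg, ← D.hf₀.herm])
  obtain ⟨c₀, hc0, hc₀⟩ := exists_skew D.hf₀
  have hc0' : (c₀ : F) ≠ 0 := fun h => hc0 (Subtype.ext h)
  have hq : qe f (emb e) (emb w) b ∈ L := D.qe_mem hee hwe hb
  have hTi := ut_mem_isom D.hf hu hc
  -- move by the transvection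
  set y := emb w + (c * f (emb w) u) • u with hy
  have hye : f y (emb e) = 0 := by
    rw [hy, D.hf.add_left, D.hf.smul_left, hswap_zero D.hf heu, D.f_emb_zero hwe]; simp
  have h1 := mul_mem (mul_mem hT hq) (inv_mem hT)
  rw [qe_conj D.hf hfe (D.f_emb_zero hwe) _ hTi, ut_mulVec D.hf hu, ut_mulVec D.hf hu, heu,
    mul_zero, zero_smul, add_zero, ← hy] at h1
  -- move by a rational transvection
  have hk' := D.ut_mem hvv hc₀
  have h2 := mul_mem (mul_mem hk' h1) (inv_mem hk')
  have hev : f (emb e) (emb v) = 0 := D.f_emb_zero (hswap_zero D.hf₀ hve)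
  set α := f y (emb v) with hα
  set ζ := (c₀ : F) * α with hζ
  have hζe : f (ζ • emb v) (emb e) = 0 := by
    rw [D.hf.smul_left, D.f_emb_zero hve, mul_zero]
  rw [qe_conj D.hf hfe hye _ (D.isom_of_mem hk'), ut_mulVec D.hf hfv, ut_mulVec D.hf hfv, hev,
    mul_zero, zero_smul, add_zero, ← hα, ← hζ, add_comm y] at h2
  set β := f y (ζ • emb v) with hβ
  have hsplit : qe f (emb e) (ζ • emb v) β * qe f (emb e) y b =
      qe f (emb e) (ζ • emb v + y) b := by
    rw [qe_add D.hf hfe hζe hye, ← hβ]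
    congr 1
    ring
  rw [← hsplit] at h2
  have h3 : qe f (emb e) (ζ • emb v) β ∈ L := (Subgroup.mul_mem_cancel_right L h1).1 h2
  -- remove the central part
  have hζnr : ζ ∉ F₀ := fun hm => hnr (by
    have hαm : α ∈ F₀ := by
      have := div_mem hm c₀.2
      rwa [hζ, mul_div_cancel_left₀ _ hc0'] at this
    rw [hα, hy, D.hf.add_left, D.hf.smul_left, D.f_emb] at hαm
    have := sub_mem hαm (D.f₀ w v).2
    rwa [add_sub_cancel_left] at this)
  have hvn : v ∉ Submodule.span F₀ {e} := fun hm => by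
    obtain ⟨q, rfl⟩ := Submodule.mem_span_singleton.1 hm
    refine hnr ?_
    rw [emb_smul, hsmul_right D.hf, hswap_zero D.hf heu, mul_zero, mul_zero]
    exact zero_mem _
  set U := Submodule.span F₀ {x | x ∈ [e, v]} with hU
  have hdim : Module.finrank F₀ U ≤ 2 := finrank_span_list _ le_rfl
  obtain ⟨x, hx, hxx, hxU⟩ := exists_generic D.hf₀ U (by omega)
  have hem : e ∈ U := Submodule.subset_span (by simp)
  have hvm : v ∈ U := Submodule.subset_span (by simp)
  have hdim' : Module.finrank F₀ (Submodule.span F₀ {y | y ∈ [e, x]}) ≤ 2 :=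
    finrank_span_list _ le_rfl
  obtain ⟨d, hdv, hdd, hdU⟩ := exists_dual_iso D.hf₀ (Submodule.span F₀ {y | y ∈ [e, x]})
    (notMem_pair hvm hem hx hvn) (by omega)
  have hde := hdU e (Submodule.subset_span (by simp))
  have hdx := hdU x (Submodule.subset_span (by simp))
  have hk : sieg f (emb x) (emb d) 1 ∈ L := D.sieg_mem hdd hdx.2 hxx 1
  have hfvd : f (emb v) (emb d) = 1 := by rw [D.hf.herm, D.f_emb, hdv]; simp
  set k := sieg f (emb x) (emb d) 1
  have ke : (k : Matrix ι ι F) *ᵥ emb e = emb e := by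
    rw [sieg_mulVec D.hf (D.f_emb_zero hdd) (D.f_emb_zero hdx.2), D.f_emb_zero hde.2,
      D.f_emb_zero (hxU e hem).2]
    simp
  have kv : (k : Matrix ι ι F) *ᵥ emb v = emb v + emb x := by
    rw [sieg_mulVec D.hf (D.f_emb_zero hdd) (D.f_emb_zero hdx.2), hfvd,
      D.f_emb_zero (hxU v hvm).2]
    simp
  have h4 := mul_mem (mul_mem hk h3) (inv_mem hk)
  have hxe : f (ζ • emb x) (emb e) = 0 := by
    rw [D.hf.smul_left, D.f_emb_zero (hxU e hem).1, mul_zero]
  have hsplit' : qe f (emb e) (ζ • emb x) 0 * qe f (emb e) (ζ • emb v) β =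
      qe f (emb e) (ζ • (emb v + emb x)) β := by
    rw [qe_add D.hf hfe hxe hζe, D.hf.smul_left, hsmul_right D.hf,
      D.f_emb_zero (hxU v hvm).2, smul_add, add_comm (ζ • emb v)]
    simp
  rw [qe_conj D.hf hfe hζe _ (D.isom_of_mem hk), mulVec_smul, ke, kv, ← hsplit'] at h4
  have h5 : sieg f (emb x) (emb e) ζ ∈ L := (Subgroup.mul_mem_cancel_right L h3).1 h4
  refine all_centres D hn (param_eq_univ D hn htop
    (⟨hxx, hee, (hxU e hem).1, he0, fun hm => hx
      ((Submodule.span_singleton_le_iff_mem _ _).2 hem hm)⟩ : Good D x e) h5 hζnr)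

theorem centres_of_kernel [Fintype F] (hn : 6 ≤ Fintype.card ι)
    (htop : ∀ T : Subfield F, F₀ ≤ T → T = F₀ ∨ T = ⊤) {u : ι → F} (hu : f u u = 0) {c : F}
    (hc : c + σ c = 0) (hT : ut f u c ∈ L) (hirr : Irr f F₀ u c)
    (hd : Module.finrank F₀ (LinearMap.range (val D u)) + 2 ≤ Fintype.card ι) :
    ∀ x, f x x = 0 → Centre σ f L x := by
  obtain ⟨e, w, v, h1, h2, h3, h4, h5, h6, h7⟩ := exists_pair D hn hirr hd
  exact centres_of_pair D hn htop hu hc hT h1 h2 h3 h4 h5 h6 h7

end Cfsg.Agent.MaxSub.SubfieldHerm
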