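import Cfsg.Agent.MaxSub.SubfieldHerm.Exist

/-!
Siegel elements of a hermitian form and the rational structure over a subfield.
-/

set_option autoImplicit false

namespace Cfsg.Agent.MaxSub.SubfieldHerm

open Matrix Cfsg.Agent.HermStab

variable {ι : Type} [Fintype ι] [DecidableEq ι] {F : Type*} [Field F]
variable {σ : F ≃+* F} {f : (ι → F) → (ι → F) → F}

/-- `x ↦ x + t f(x,b) a - σ t f(x,a) b`. -/
noncomputable def sieg (f : (ι → F) → (ι → F) → F) (a b : ι → F) (t : F) : GL ι F :=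
  qe f b (t • a) 0

section Algebra

variable (hf : Geo.IsUnitaryForm σ f)
include hf

theorem sieg_mulVec {a b : ι → F} (hb : f b b = 0) (hab : f a b = 0) (t : F) (x : ι → F) :
    (sieg f a b t : Matrix ι ι F) *ᵥ x = x + (t * f x b) • a - (σ t * f x a) • b := by
  rw [sieg, qe_mulVec hf hb (by rw [hf.smul_left, hab, mul_zero]), hsmul_right hf]
  module

theorem sieg_flip {a b : ι → F} (ha : f a a = 0) (hb : f b b = 0) (hab : f a b = 0) (t : F) :
    sieg f a b t = sieg f b a (-σ t) := gl_ext fun x => by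
  rw [sieg_mulVec hf hb hab, sieg_mulVec hf ha (hswap_zero hf hab), map_neg, hf.involutive]
  module

omit hf in
theorem sieg_smul_left (a b : ι → F) (s t : F) : sieg f (s • a) b t = sieg f a b (t * s) := by
  rw [sieg, sieg, smul_smul]

theorem qe_add {e w₁ w₂ : ι → F} (he : f e e = 0) (h1 : f w₁ e = 0) (h2 : f w₂ e = 0)
    (b₁ b₂ : F) :
    qe f e w₁ b₁ * qe f e w₂ b₂ = qe f e (w₁ + w₂) (b₁ + b₂ - f w₂ w₁) := gl_ext fun x => by
  rw [Units.val_mul, ← mulVec_mulVec, qe_mulVec hf he h2, qe_mulVec hf he h1,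
    qe_mulVec hf he (by rw [hf.add_left, h1, h2, add_zero])]
  simp only [hf.add_left, hf.smul_left, hsub_left hf, hadd_right hf, he, h2,
    hswap_zero hf h1]
  module

theorem sieg_add_left {a a' b : ι → F} (hb : f b b = 0) (hab : f a b = 0) (ha'b : f a' b = 0)
    (haa' : f a' a = 0) (t t' : F) :
    qe f b (t • a + t' • a') 0 = sieg f a b t * sieg f a' b t' := by
  rw [sieg, sieg, qe_add hf hb (by rw [hf.smul_left, hab, mul_zero])
    (by rw [hf.smul_left, ha'b, mul_zero]), hf.smul_left, hsmul_right hf, haa']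
  simp

theorem qe_conj {e w : ι → F} (he : f e e = 0) (hwe : f w e = 0) (b : F) {k : GL ι F}
    (hk : k ∈ isom f) :
    k * qe f e w b * k⁻¹ =
      qe f ((k : Matrix ι ι F) *ᵥ e) ((k : Matrix ι ι F) *ᵥ w) b := gl_ext fun x => by
  have hi := mem_isom.mp hk
  rw [qe_mulVec hf ((hi e e).trans he) ((hi w e).trans hwe), Units.val_mul, Units.val_mul,
    ← mulVec_mulVec, ← mulVec_mulVec, qe_mulVec hf he hwe]
  have h1 : ∀ v, f (((k⁻¹ : GL ι F) : Matrix ι ι F) *ᵥ x) v = f x ((k : Matrix ι ι F) *ᵥ v) :=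
    fun v => by rw [← hi, mulVec_inv_mulVec]
  rw [h1, h1]
  simp only [mulVec_add, mulVec_sub, mulVec_smul, mulVec_inv_mulVec]

theorem qe_zero_eq_ut {e : ι → F} (he : f e e = 0) (c : F) : qe f e 0 c = ut f e c :=
  gl_ext fun x => by
    rw [qe_mulVec hf he (hzero_left hf e), ut_mulVec hf he, hzero_right hf]
    simp

theorem ut_conj {v : ι → F} (hv : f v v = 0) (c : F) {k : GL ι F} (hk : k ∈ isom f) :
    k * ut f v c * k⁻¹ = ut f ((k : Matrix ι ι F) *ᵥ v) c := by
  rw [ut, tv_conj k (ut_dot hf hv c), smul_vecMul, hrep_vecMul_inv hf hk, ut]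

end Algebra

/-- A rational structure of a hermitian form over a subfield, with the induced form, and a
group between the rational isometries and all isometries. -/
structure Data (σ : F ≃+* F) (f : (ι → F) → (ι → F) → F) (F₀ : Subfield F)
    (L : Subgroup (GL ι F)) where
  σ₀ : F₀ ≃+* F₀
  σ₀_coe : ∀ x : F₀, ((σ₀ x : F₀) : F) = σ x
  f₀ : (ι → F₀) → (ι → F₀) → F₀
  f₀_coe : ∀ u v, (f₀ u v : F) = f (fun i => u i) (fun i => v i)
  hf₀ : Geo.IsUnitaryForm σ₀ f₀
  hf : Geo.IsUnitaryForm σ f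
  le_su : L ≤ su f
  rat_mem : ∀ k ∈ su f, (∀ i j, (k : Matrix ι ι F) i j ∈ F₀) → k ∈ L

variable {F₀ : Subfield F} {L : Subgroup (GL ι F)}

/-- The vector over `F` of a rational vector. -/
abbrev emb (v : ι → F₀) : ι → F := fun i => (v i : F)

omit [Fintype ι] [DecidableEq ι] in
theorem emb_add (u v : ι → F₀) : emb (u + v) = emb u + emb v := rfl

omit [Fintype ι] [DecidableEq ι] in
theorem emb_sub (u v : ι → F₀) : emb (u - v) = emb u - emb v := rfl

omit [Fintype ι] [DecidableEq ι] in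
theorem emb_smul (c : F₀) (v : ι → F₀) : emb (c • v) = (c : F) • emb v := rfl

omit [Fintype ι] [DecidableEq ι] in
theorem emb_zero : emb (0 : ι → F₀) = 0 := rfl

omit [Fintype ι] [DecidableEq ι] in
theorem emb_injective : Function.Injective (emb : (ι → F₀) → ι → F) :=
  fun _ _ h => funext fun i => Subtype.ext (congrFun h i)

theorem Data.f_emb (D : Data σ f F₀ L) (u v : ι → F₀) : f (emb u) (emb v) = (D.f₀ u v : F) :=
  (D.f₀_coe u v).symm

theorem Data.f_emb_zero (D : Data σ f F₀ L) {u v : ι → F₀} (h : D.f₀ u v = 0) :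
    f (emb u) (emb v) = 0 := by rw [D.f_emb, h]; rfl

theorem rat_of_mulVec {g : GL ι F}
    (h : ∀ x : ι → F₀, ∀ i, ((g : Matrix ι ι F) *ᵥ emb x) i ∈ F₀) (i j : ι) :
    (g : Matrix ι ι F) i j ∈ F₀ := by
  have := h (Pi.single j 1) i
  rwa [show emb (Pi.single j (1 : F₀)) = Pi.single j (1 : F) from funext fun l => by
    by_cases hl : l = j
    · subst hl; simp [emb]
    · simp [emb, Pi.single_eq_of_ne hl], mulVec_single_one] at this

theorem Data.qe_mem (D : Data σ f F₀ L) {e w : ι → F₀} (he : D.f₀ e e = 0) (hwe : D.f₀ w e = 0)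
    {b : F₀} (hb : b + D.σ₀ b = -D.f₀ w w) : qe f (emb e) (emb w) b ∈ L := by
  have h1 := D.f_emb_zero he
  have h2 := D.f_emb_zero hwe
  refine D.rat_mem _ (qe_mem_su D.hf h1 h2 ?_) (rat_of_mulVec fun x i => ?_)
  · rw [← D.σ₀_coe, D.f_emb]
    exact congrArg Subtype.val hb
  · rw [qe_mulVec D.hf h1 h2, D.f_emb, D.f_emb]
    exact (x i + D.f₀ x e * w i - D.f₀ x w * e i + b * D.f₀ x e * e i).2

theorem Data.ut_mem (D : Data σ f F₀ L) {e : ι → F₀} (he : D.f₀ e e = 0) {c : F₀}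
    (hc : c + D.σ₀ c = 0) : ut f (emb e) c ∈ L := by
  rw [← qe_zero_eq_ut D.hf (D.f_emb_zero he)]
  exact D.qe_mem (w := 0) he (hzero_left D.hf₀ e) (by rw [hc, hzero_left D.hf₀, neg_zero])

theorem Data.sieg_mem (D : Data σ f F₀ L) {a b : ι → F₀} (hb : D.f₀ b b = 0)
    (hab : D.f₀ a b = 0) (ha : D.f₀ a a = 0) (t : F₀) : sieg f (emb a) (emb b) t ∈ L := by
  have := D.qe_mem (w := t • a) (b := 0) hb (by rw [D.hf₀.smul_left, hab, mul_zero])
    (by simp [D.hf₀.smul_left, hsmul_right D.hf₀, ha])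
  rwa [emb_smul] at this

theorem Data.isom_of_mem (D : Data σ f F₀ L) {k : GL ι F} (hk : k ∈ L) : k ∈ isom f :=
  (D.le_su hk).1

end Cfsg.Agent.MaxSub.SubfieldHerm
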