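import Cfsg.Agent.MaxSub.HermStab

/-!
Isotropic vectors avoiding subspaces, for hermitian forms given as functions.
-/

set_option autoImplicit false

namespace Cfsg.Agent.MaxSub.SubfieldHerm

open Matrix Cfsg.Agent.HermStab

variable {ι : Type} [Fintype ι] [DecidableEq ι] {F : Type*} [Field F]
variable {σ : F ≃+* F} {f : (ι → F) → (ι → F) → F} (hf : Geo.IsUnitaryForm σ f)

include hf

theorem mem_perp_span {s : Set (ι → F)} {x : ι → F} :
    x ∈ perp hf (Submodule.span F s) ↔ ∀ u ∈ s, f x u = 0 := by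
  rw [mem_perp]
  refine ⟨fun h u hu => h u (Submodule.subset_span hu), fun h u hu => ?_⟩
  induction hu using Submodule.span_induction with
  | mem w hw => exact h w hw
  | zero => exact hzero_right hf _
  | add p q _ _ hp hq => rw [hadd_right hf, hp, hq, add_zero]
  | smul r p _ hp => rw [hsmul_right hf, hp, mul_zero]

theorem card_le_perp (U : Submodule F (ι → F)) :
    Fintype.card ι ≤ Module.finrank F (perp hf U) + Module.finrank F U := by
  classical
  let b := Module.finBasis F U
  let Φ : (ι → F) →ₗ[F] (Fin (Module.finrank F U) → F) :=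
    LinearMap.pi fun j => hl hf (b j : ι → F)
  have hker : LinearMap.ker Φ ≤ perp hf U := by
    intro x hx
    rw [mem_perp]
    intro u hu
    have h : ∀ j, f x (b j : ι → F) = 0 := fun j => congrFun hx j
    have hsum : u = ∑ j, b.repr ⟨u, hu⟩ j • (b j : ι → F) := by
      have := congrArg U.subtype (b.sum_repr ⟨u, hu⟩)
      rw [map_sum] at this
      exact this.symm.trans (Finset.sum_congr rfl fun j _ => rfl)
    rw [hsum, hswap_zero hf]
    rw [← hl_apply hf, map_sum]
    simp [hswap_zero hf (h _)]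
  have h1 := LinearMap.finrank_range_add_finrank_ker Φ
  have h2 := Submodule.finrank_mono hker
  have h3 := Submodule.finrank_le (LinearMap.range Φ)
  simp at h1 h3
  omega

theorem exists_iso_notMem [Finite F] {K U : Submodule F (ι → F)}
    (h : Module.finrank F ↥(U ⊓ K) + 2 ≤ Module.finrank F K) :
    ∃ e ∈ K, e ∉ U ∧ f e e = 0 := by
  obtain ⟨C, hC⟩ := Submodule.exists_isCompl ((U ⊓ K).comap K.subtype)
  have hdim := Submodule.finrank_add_eq_of_isCompl hC
  rw [(Submodule.comapSubtypeEquivOfLe (inf_le_right : U ⊓ K ≤ K)).finrank_eq] at hdim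
  have hC2 : 2 ≤ Module.finrank F (C.map K.subtype) := by
    rw [(Submodule.equivMapOfInjective _ K.subtype_injective C).finrank_eq.symm]
    omega
  obtain ⟨e, he, he0, hee⟩ := exists_iso_mem hf hC2
  obtain ⟨c, hc, rfl⟩ := Submodule.mem_map.1 he
  refine ⟨c, c.2, fun hU => he0 ?_, hee⟩
  have : c ∈ (U ⊓ K).comap K.subtype ⊓ C := ⟨⟨hU, c.2⟩, hc⟩
  rw [hC.inf_eq_bot, Submodule.mem_bot] at this
  simp [this]

/-- An isotropic vector orthogonal to `U` and outside it. -/
theorem exists_generic [Finite F] (U : Submodule F (ι → F))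
    (h : 2 * Module.finrank F U + 2 ≤ Fintype.card ι) :
    ∃ z, z ∉ U ∧ f z z = 0 ∧ ∀ u ∈ U, f z u = 0 ∧ f u z = 0 := by
  have h1 := card_le_perp hf U
  have h2 := Submodule.finrank_mono (inf_le_left : U ⊓ perp hf U ≤ U)
  obtain ⟨z, hz, hzU, hzz⟩ := exists_iso_notMem hf (K := perp hf U) (U := U) (by omega)
  exact ⟨z, hzU, hzz, fun u hu =>
    ⟨(mem_perp hf).1 hz u hu, hswap_zero hf ((mem_perp hf).1 hz u hu)⟩⟩

/-- Isotropic vectors of `K` span `K` when one of them is outside the radical of `K`. -/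
theorem exists_iso_notMem_of_pair [Finite F] {K U : Submodule F (ι → F)} {e z : ι → F}
    (he : e ∈ K) (hee : f e e = 0) (hz : z ∈ K) (hze : f z e ≠ 0) (hKU : ¬ K ≤ U) :
    ∃ v ∈ K, v ∉ U ∧ f v v = 0 := by
  by_contra hall
  push Not at hall
  have heU : e ∈ U := by
    by_contra h
    exact hall e he h hee
  have key : ∀ x ∈ K, f x e ≠ 0 → x ∈ U := by
    intro x hx hxe
    have hα : σ (f x e) ≠ 0 := (map_ne_zero σ).2 hxe
    obtain ⟨t', ht'⟩ := exists_trace hf (r := -f x x) (by rw [map_neg, ← hf.herm])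
    set t := t' / σ (f x e) with ht
    have hv : f (x + t • e) (x + t • e) = 0 := by
      simp only [hf.add_left, hadd_right hf, hf.smul_left, hsmul_right hf, hee, hf.herm e x, ht,
        map_div₀, hf.involutive]
      field_simp
      linear_combination f x e * σ (f x e) * ht'
    by_contra hxU
    refine hall (x + t • e) (K.add_mem hx (K.smul_mem _ he)) (fun h => hxU ?_) hv
    have := U.sub_mem h (U.smul_mem t heU)
    rwa [add_sub_cancel_right] at this
  refine hKU fun x hx => ?_
  by_cases hxe : f x e = 0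
  · have h1 := key (x + z) (K.add_mem hx hz) (by rw [hf.add_left, hxe, zero_add]; exact hze)
    have h2 := key z hz hze
    have := U.sub_mem h1 h2
    rwa [add_sub_cancel_right] at this
  · exact key x hx hxe

/-- An isotropic vector orthogonal to `U` with value one at `a`. -/
theorem exists_dual_iso [Finite F] (U : Submodule F (ι → F)) {a : ι → F} (ha : a ∉ U)
    (h : 2 * Module.finrank F U + 2 ≤ Fintype.card ι) :
    ∃ z, f z a = 1 ∧ f z z = 0 ∧ ∀ u ∈ U, f z u = 0 ∧ f u z = 0 := by
  obtain ⟨g, hgU, hgg, hgu⟩ := exists_generic hf U h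
  obtain ⟨z₀, hz₀, hz₀U⟩ := exists_dual hf hgU
  obtain ⟨w₀, hw₀, hw₀U⟩ := exists_dual hf ha
  have hmem : ∀ {x}, (∀ u ∈ U, f x u = 0 ∧ f u x = 0) → x ∈ perp hf U := fun hx =>
    (mem_perp hf).2 fun u hu => (hx u hu).1
  obtain ⟨v, hv, hva, hvv⟩ := exists_iso_notMem_of_pair hf (K := perp hf U)
    (U := LinearMap.ker (hl hf a)) (hmem hgu) hgg (hmem hz₀U) (by rw [hz₀]; exact one_ne_zero)
    (fun hle => one_ne_zero (hw₀.symm.trans (hle (hmem hw₀U))))
  have hva' : f v a ≠ 0 := hva
  refine ⟨(f v a)⁻¹ • v, ?_, ?_, fun u hu => ?_⟩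
  · rw [hf.smul_left, inv_mul_cancel₀ hva']
  · rw [hf.smul_left, hsmul_right hf, hvv]; simp
  · have h0 := (mem_perp hf).1 hv u hu
    rw [hf.smul_left, hsmul_right hf, hswap_zero hf h0, h0]
    simp

omit [DecidableEq ι] hf in
theorem finrank_span_le_length (l : List (ι → F)) :
    Module.finrank F (Submodule.span F {x | x ∈ l}) ≤ l.length := by
  classical
  have : {x | x ∈ l} = (l.toFinset : Set (ι → F)) := by ext; simp
  rw [this]
  exact (finrank_span_finset_le_card l.toFinset).trans l.toFinset_card_le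

end Cfsg.Agent.MaxSub.SubfieldHerm
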