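import Cfsg.Agent.MaxSub.SubfieldHerm.Real
import Cfsg.Agent.MaxSub.SubfieldMax.SL2

/-!
An irrational transvection with small rational orthogonal produces, by Dickson's theorem on a
plane, one with large rational orthogonal.
-/

set_option autoImplicit false

namespace Cfsg.Agent.MaxSub.SubfieldHerm

open Matrix Cfsg.Agent.HermStab
open scoped MatrixGroups Classical
open Cfsg.Agent.PLocalB (upper lower)

variable {ι : Type} [Fintype ι] [DecidableEq ι] {F : Type*} [Field F]
variable {σ : F ≃+* F} {f : (ι → F) → (ι → F) → F} {F₀ : Subfield F} {L : Subgroup (GL ι F)}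
variable (D : Data σ f F₀ L)

theorem exists_tiso [Finite F] (hn : 6 ≤ Fintype.card ι) {u : ι → F}
    (hK : Module.finrank F₀ (LinearMap.ker (val D u)) ≤ 1) :
    ∀ k ≤ 3, ∃ S : Submodule F₀ (ι → F₀), Module.finrank F₀ S = k ∧
      (∀ x ∈ S, ∀ y ∈ S, D.f₀ x y = 0) ∧ S ⊓ LinearMap.ker (val D u) = ⊥ := by
  intro k hk
  induction k with
  | zero => exact ⟨⊥, finrank_bot _ _, fun x hx y _ => by
      simp only [Submodule.mem_bot] at hx; rw [hx, hzero_left D.hf₀], bot_inf_eq _⟩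
  | succ k ih =>
    obtain ⟨S, hS, hiso, hSK⟩ := ih (by omega)
    have hp := finrank_perp_add D.hf₀ S
    have h1 := Submodule.finrank_mono
      (inf_le_left : (S ⊔ LinearMap.ker (val D u)) ⊓ perp D.hf₀ S ≤ _)
    have h2 := Submodule.finrank_sup_add_finrank_inf_eq S (LinearMap.ker (val D u))
    obtain ⟨g, hg, hgn, hgg⟩ := exists_iso_notMem D.hf₀ (K := perp D.hf₀ S) (U := S) (by
      have := Submodule.finrank_mono (inf_le_left : S ⊓ perp D.hf₀ S ≤ _)
      omega)
    obtain ⟨z₀, hz₀, hz₀S⟩ := exists_dual D.hf₀ hgn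
    obtain ⟨x, hx, hxn, hxx⟩ := exists_iso_notMem_of_pair D.hf₀ (K := perp D.hf₀ S)
      (U := S ⊔ LinearMap.ker (val D u)) hg hgg ((mem_perp D.hf₀).2 fun s hs => (hz₀S s hs).1)
      (by rw [hz₀]; exact one_ne_zero) (fun hle => by
        have := Submodule.finrank_mono hle
        omega)
    have hxS : ∀ s ∈ S, D.f₀ x s = 0 := (mem_perp D.hf₀).1 hx
    refine ⟨S ⊔ Submodule.span F₀ {x}, ?_, ?_, ?_⟩
    · have h := Submodule.finrank_sup_add_finrank_inf_eq S (Submodule.span F₀ {x})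
      have hx0 : x ≠ 0 := fun e => hxn (e ▸ zero_mem _)
      have hb : S ⊓ Submodule.span F₀ {x} = ⊥ := by
        refine (Submodule.eq_bot_iff _).2 fun y hy => ?_
        obtain ⟨t, rfl⟩ := Submodule.mem_span_singleton.1 hy.2
        by_contra hne
        have ht : t ≠ 0 := fun e => hne (by rw [e, zero_smul])
        exact hxn (Submodule.mem_sup_left ((S.smul_mem_iff ht).1 hy.1))
      rw [hb, finrank_bot, finrank_span_singleton hx0, hS] at h
      omega
    · intro a ha b hb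
      obtain ⟨a₁, ha₁, a₂, ha₂, rfl⟩ := Submodule.mem_sup.1 ha
      obtain ⟨b₁, hb₁, b₂, hb₂, rfl⟩ := Submodule.mem_sup.1 hb
      obtain ⟨s, rfl⟩ := Submodule.mem_span_singleton.1 ha₂
      obtain ⟨t, rfl⟩ := Submodule.mem_span_singleton.1 hb₂
      simp [D.hf₀.add_left, hadd_right D.hf₀, D.hf₀.smul_left, hsmul_right D.hf₀,
        hiso a₁ ha₁ b₁ hb₁, hxS b₁ hb₁, hswap_zero D.hf₀ (hxS a₁ ha₁), hxx]
    · refine (Submodule.eq_bot_iff _).2 fun y hy => ?_
      obtain ⟨a₁, ha₁, a₂, ha₂, rfl⟩ := Submodule.mem_sup.1 hy.1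
      obtain ⟨s, rfl⟩ := Submodule.mem_span_singleton.1 ha₂
      rcases eq_or_ne s 0 with rfl | hs
      · rw [zero_smul, add_zero] at hy ⊢
        exact (Submodule.eq_bot_iff _).1 hSK a₁ ⟨ha₁, hy.2⟩
      · refine absurd ?_ hxn
        rw [← Submodule.smul_mem_iff _ hs]
        have := sub_mem (Submodule.mem_sup_right (S := S) hy.2) (Submodule.mem_sup_left ha₁)
        rwa [add_sub_cancel_left] at this

include D in
theorem eq_emb_of_values [Finite F] {v : ι → F}
    (h : ∀ x : ι → F₀, f v (emb x) ∈ F₀) : ∃ y : ι → F₀, v = emb y := by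
  let T : (ι → F₀) →ₗ[F₀] (ι → F₀) :=
    LinearMap.pi fun i => hl D.hf₀ (Pi.single i 1)
  have he : ∀ i, emb (Pi.single i (1 : F₀)) = Pi.single i (1 : F) := fun i => funext fun l => by
    show ((Pi.single i (1 : F₀) : ι → F₀) l : F) = _
    rw [Pi.single_apply, Pi.single_apply]
    split_ifs <;> rfl
  have hdet : ∀ w : ι → F, (∀ i, f w (Pi.single i 1) = 0) → w = 0 := fun w hw => by
    by_contra hw0
    obtain ⟨x, hx⟩ := (D.hf.nondegenerate w hw0).2
    refine hx (hswap_zero D.hf ?_)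
    rw [← hl_apply D.hf, pi_eq_sum_univ' x, map_sum]
    simp [D.hf.smul_left, hswap_zero D.hf (hw _)]
  have hinj : Function.Injective T := by
    rw [injective_iff_map_eq_zero]
    intro y hy
    refine emb_injective (hdet (emb y) fun i => ?_)
    rw [← he, D.f_emb]
    exact congrArg Subtype.val (congrFun hy i)
  obtain ⟨y, hy⟩ := LinearMap.injective_iff_surjective.1 hinj
    (fun i => ⟨f v (emb (Pi.single i (1 : F₀))), h _⟩)
  refine ⟨y, sub_eq_zero.1 (hdet _ fun i => ?_)⟩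
  rw [hsub_left D.hf, ← he, D.f_emb y]
  have : (D.f₀ y (Pi.single i 1) : F) = f v (emb (Pi.single i (1 : F₀))) :=
    congrArg Subtype.val (congrFun hy i)
  rw [this, sub_self]

theorem exists_ray (D : Data σ f F₀ L) [Finite F] {x : ι → F} (hx0 : x ≠ 0) {c : F}
    (hc : c ∈ F₀) (hc0 : c ≠ 0) (hirr : ¬ Irr f F₀ x c) :
    ∃ (β : F) (y : ι → F₀), β ≠ 0 ∧ σ β * β ∈ F₀ ∧ x = β • emb y := by
  have hf := D.hf
  simp only [Irr, not_exists, not_not] at hirr
  have hq' : ∀ v w : ι → F₀, f (emb v) x * f x (emb w) ∈ F₀ := by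
    intro v w
    have := div_mem (hirr v w) hc
    rwa [mul_assoc, mul_div_cancel_left₀ _ hc0] at this
  obtain ⟨w₀, hw₀⟩ : ∃ w : ι → F₀, f x (emb w) ≠ 0 := by
    by_contra h
    push Not at h
    obtain ⟨y, hy⟩ := eq_emb_of_values D (v := x) fun w => by rw [h]; exact zero_mem _
    by_cases hy0 : y = 0
    · exact hx0 (by rw [hy, hy0, emb_zero])
    obtain ⟨z, hz⟩ := (D.hf₀.nondegenerate y hy0).2
    exact hz (Subtype.ext ((D.f_emb y z).symm.trans (hy ▸ h z)))
  set β := f x (emb w₀) with hβ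
  have hNβ : σ β * β ∈ F₀ := by
    have := hq' w₀ w₀
    rwa [hf.herm (emb w₀) x] at this
  obtain ⟨y, hy⟩ := eq_emb_of_values D (v := β⁻¹ • x) fun w => by
    rw [hf.smul_left]
    have := div_mem (hq' w₀ w) hNβ
    rw [hf.herm (emb w₀) x] at this
    rwa [mul_div_mul_left _ _ ((map_ne_zero σ).2 hw₀), div_eq_inv_mul] at this
  exact ⟨β, y, hw₀, hNβ, by rw [← hy, smul_smul, mul_inv_cancel₀ hw₀, one_smul]⟩

/-- An element of an extension of odd prime degree that is a root of a quadratic is in the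
ground field. -/
theorem mem_of_quadratic {r : ℕ} (hr : r.Prime) (h2 : r ≠ 2) [Finite F]
    (hq : Nat.card F = Nat.card F₀ ^ r) {x : F} {p q s : F₀} (hs : s ≠ 0)
    (h : (p : F) * x ^ 2 + q * x + s = 0) : x ∈ F₀ := by
  have hF : Module.finrank F₀ F = r := by
    have := Module.natCard_eq_pow_finrank (K := F₀) (V := F)
    rw [hq] at this
    exact (Nat.pow_right_injective Finite.one_lt_card this).symm
  have hint : IsIntegral F₀ x := Algebra.IsIntegral.isIntegral x
  have hdvd := minpoly.degree_dvd hint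
  rw [hF] at hdvd
  set P : Polynomial F₀ := Polynomial.C p * Polynomial.X ^ 2 + Polynomial.C q * Polynomial.X +
    Polynomial.C s with hP
  have hP0 : P ≠ 0 := fun e => hs (by simpa [hP] using congrArg (fun R => Polynomial.coeff R 0) e)
  have hev : Polynomial.aeval x P = 0 := by
    rw [hP]
    simp only [map_add, map_mul, map_pow, Polynomial.aeval_C, Polynomial.aeval_X]
    exact h
  have hle := Polynomial.natDegree_le_of_dvd (minpoly.dvd F₀ x hev) hP0
  have hP2 : P.natDegree ≤ 2 := Polynomial.natDegree_quadratic_le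
  rcases hr.eq_one_or_self_of_dvd _ hdvd with h1 | h1
  · obtain ⟨y, hy⟩ := (minpoly.natDegree_eq_one_iff).1 h1
    exact hy ▸ y.2
  · have := hr.two_le
    omega

set_option maxHeartbeats 800000 in
theorem centres_of_generic [Fintype F] (hn : 6 ≤ Fintype.card ι) {r : ℕ} (hr : r.Prime)
    (hq : Nat.card F = Nat.card F₀ ^ r) {u : ι → F} (hu : f u u = 0) {c : F}
    (hc : c + σ c = 0) (hc0 : c ≠ 0) (hT : ut f u c ∈ L)
    (hd : Fintype.card ι < Module.finrank F₀ (LinearMap.range (val D u)) + 2) :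
    ∀ x, f x x = 0 → Centre σ f L x := by
  have hf := D.hf
  have hK := LinearMap.finrank_range_add_finrank_ker (val D u)
  rw [Module.finrank_pi] at hK
  -- the fields
  obtain ⟨c₀, hc₀0, hc₀⟩ := exists_skew D.hf₀
  have hc₀' : (c₀ : F) + σ c₀ = 0 := by rw [← D.σ₀_coe]; exact congrArg Subtype.val hc₀
  have hc₀0' : (c₀ : F) ≠ 0 := fun h => hc₀0 (Subtype.ext h)
  obtain ⟨l, hlF, hlne⟩ : ∃ l ∈ F₀, σ l ≠ l := by
    by_contra h
    push Not at h
    exact D.hf₀.ne_refl (RingEquiv.ext fun x => Subtype.ext ((D.σ₀_coe x).trans (h x x.2)))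
  have hstab : ∀ x ∈ F₀, σ x ∈ F₀ := fun x hx => by
    rw [show σ x = D.σ₀ ⟨x, hx⟩ from (D.σ₀_coe ⟨x, hx⟩).symm]; exact SetLike.coe_mem _
  let Fq := realPart σ
  let Fq₀ : Subfield Fq := F₀.comap Fq.subtype
  have hcard₀ : Nat.card Fq₀ = Nat.card (F₀ ⊓ realPart σ : Subfield F) :=
    Nat.card_congr
      { toFun := fun x => ⟨((x : Fq) : F), x.2, (x : Fq).2⟩
        invFun := fun x => ⟨⟨x.1, x.2.2⟩, x.2.1⟩
        left_inv := fun x => rfl
        right_inv := fun x => rfl }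
  have hF₀sq := card_eq_sq hf.involutive F₀ hstab hlF hlne
  have hFsq := card_eq_sq hf.involutive (⊤ : Subfield F) (fun x _ => Subfield.mem_top _)
    (Subfield.mem_top l) hlne
  rw [top_inf_eq, Nat.card_congr Subfield.topEquiv.toEquiv] at hFsq
  rw [← hcard₀] at hF₀sq
  set q₀ := Nat.card Fq₀ with hq₀def
  have hq₀ : 2 ≤ q₀ := Finite.one_lt_card
  have hFq : Nat.card Fq = q₀ ^ r := by
    refine (Nat.pow_left_injective two_ne_zero ?_ :)
    show Nat.card Fq ^ 2 = (q₀ ^ r) ^ 2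
    rw [← hFsq, hq, hF₀sq, ← pow_mul, ← pow_mul, mul_comm]
  have hr5 : 5 ≤ r := by
    have hF : Module.finrank F₀ F = r := by
      have := Module.natCard_eq_pow_finrank (K := F₀) (V := F)
      rw [hq] at this
      exact (Nat.pow_right_injective Finite.one_lt_card this).symm
    have := Submodule.finrank_le (LinearMap.range (val D u))
    omega
  -- a totally isotropic rational space
  obtain ⟨S, hS3, hSiso, hSK⟩ := exists_tiso D hn (u := u) (by omega) 3 le_rfl
  have hSinj : ∀ x ∈ S, f (emb x) u = 0 → x = 0 := fun x hx h =>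
    (Submodule.eq_bot_iff _).1 hSK x ⟨hx, h⟩
  obtain ⟨e₀, he₀, he₀0⟩ := S.ne_bot_iff.1 (fun h => by rw [h, finrank_bot] at hS3; omega)
  set a := f (emb e₀) u with ha
  have ha0 : a ≠ 0 := fun h => he₀0 (hSinj e₀ he₀ h)
  let SF : Submodule F (ι → F) := Submodule.span F ((emb : (ι → F₀) → ι → F) '' S)
  have hmemS : ∀ x ∈ S, emb x ∈ SF := fun x hx => Submodule.subset_span ⟨x, hx, rfl⟩
  have hSFiso : ∀ x ∈ SF, ∀ y ∈ SF, f x y = 0 := by
    have h1 : SF ≤ perp hf SF := by
      refine Submodule.span_le.2 ?_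
      rintro _ ⟨x, hx, rfl⟩
      refine (mem_perp_span hf).2 ?_
      rintro _ ⟨y, hy, rfl⟩
      exact D.f_emb_zero (hSiso x hx y hy)
    exact fun x hx => (mem_perp hf).1 (h1 hx)
  let R : Submodule F (ι → F) := SF ⊓ LinearMap.ker (hl hf u)
  have hR : ∀ {z}, z ∈ R → z ∈ SF ∧ f z u = 0 := fun h => h
  -- the plane
  set ε₁ := emb e₀ with hε₁
  set κ := c * a with hκ
  have hκ0 : κ ≠ 0 := mul_ne_zero hc0 ha0
  set ε₂ := κ • u with hε₂
  let H : Subgroup SL(2, Fq) :=
    { carrier := {A | ∃ g ∈ L, (∀ z ∈ R, (g : Matrix ι ι F) *ᵥ z = z) ∧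
        (g : Matrix ι ι F) *ᵥ ε₁ - ((A 0 0 : F) • ε₁ + (A 1 0 : F) • ε₂) ∈ R ∧
        (g : Matrix ι ι F) *ᵥ ε₂ - ((A 0 1 : F) • ε₁ + (A 1 1 : F) • ε₂) ∈ R}
      one_mem' := ⟨1, one_mem _, by simp, by simp, by simp⟩
      mul_mem' := by
        rintro A B ⟨g, hg, gR, g1, g2⟩ ⟨k, hk, kR, k1, k2⟩
        have key : ∀ (p q : F) (w : ι → F), w - (p • ε₁ + q • ε₂) ∈ R →
            (g : Matrix ι ι F) *ᵥ w - ((p * A 0 0 + q * A 0 1) • ε₁ +
              (p * A 1 0 + q * A 1 1) • ε₂) ∈ R := by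
          intro p q w hw
          have h3 := add_mem hw (add_mem (R.smul_mem p g1) (R.smul_mem q g2))
          have h4 := gR _ hw
          rw [mulVec_sub, mulVec_add, mulVec_smul, mulVec_smul] at h4
          convert h3 using 1
          rw [← h4]
          module
        refine ⟨g * k, mul_mem hg hk, fun z hz => ?_, ?_, ?_⟩
        · rw [Units.val_mul, ← mulVec_mulVec, kR z hz, gR z hz]
        · rw [Units.val_mul, ← mulVec_mulVec]
          convert key _ _ _ k1 using 2
          simp only [Matrix.SpecialLinearGroup.coe_mul, Matrix.mul_apply, Fin.sum_univ_two]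
          push_cast
          module
        · rw [Units.val_mul, ← mulVec_mulVec]
          convert key _ _ _ k2 using 2
          simp only [Matrix.SpecialLinearGroup.coe_mul, Matrix.mul_apply, Fin.sum_univ_two]
          push_cast
          module
      inv_mem' := by
        rintro A ⟨g, hg, gR, g1, g2⟩
        have hd : (A 0 0 : F) * A 1 1 - A 0 1 * A 1 0 = 1 := by
          have := congrArg (Subtype.val : Fq → F) (PLocalB.det_entries A)
          push_cast at this
          exact this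
        have hinv : (A⁻¹ : SL(2, Fq)).1 = !![A 1 1, -A 0 1; -A 1 0, A 0 0] := by
          rw [Matrix.SpecialLinearGroup.coe_inv, Matrix.adjugate_fin_two]
        have key : ∀ (p q : F) (w : ι → F),
            (p * A 0 0 + q * A 0 1) • ε₁ + (p * A 1 0 + q * A 1 1) • ε₂ = w →
            ((g⁻¹ : GL ι F) : Matrix ι ι F) *ᵥ w - (p • ε₁ + q • ε₂) ∈ R := by
          intro p q w hw
          have h3 := add_mem (R.smul_mem p g1) (R.smul_mem q g2)
          have h5 := R.neg_mem h3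
          have hgz : (g : Matrix ι ι F) *ᵥ (((g⁻¹ : GL ι F) : Matrix ι ι F) *ᵥ w -
              (p • ε₁ + q • ε₂)) ∈ R := by
            rw [mulVec_sub, mulVec_inv_mulVec, mulVec_add, mulVec_smul, mulVec_smul, ← hw]
            convert h5 using 1
            module
          have h6 := gR _ hgz
          rwa [← mulVec_injective g h6]
        refine ⟨g⁻¹, inv_mem hg, fun z hz => ?_, ?_, ?_⟩
        · conv_lhs => rw [← gR z hz]
          exact inv_mulVec_mulVec g z
        · rw [hinv]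
          simp only [Matrix.of_apply, Matrix.cons_val', Matrix.cons_val_zero, Matrix.cons_val_one,
            Matrix.empty_val', Matrix.cons_val_fin_one, NegMemClass.coe_neg]
          refine key _ _ _ ?_
          linear_combination (norm := module) hd • ε₁
        · rw [hinv]
          simp only [Matrix.of_apply, Matrix.cons_val', Matrix.cons_val_zero, Matrix.cons_val_one,
            Matrix.empty_val', Matrix.cons_val_fin_one, NegMemClass.coe_neg]
          refine key _ _ _ ?_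
          linear_combination (norm := module) hd • ε₂ }
  have hlow : lower (1 : Fq) ∈ H := by
    refine ⟨ut f u c, hT, fun z hz => ?_, ?_, ?_⟩
    · rw [ut_mulVec hf hu, (hR hz).2, mul_zero, zero_smul, add_zero]
    · rw [ut_mulVec hf hu, hε₁, ← ha, hε₂, hκ]
      simp [lower]
    · rw [ut_mulVec hf hu, hε₂, hf.smul_left, hu]
      simp [lower]
  -- the upper transvections
  let Uu : AddSubgroup Fq :=
    { carrier := {s | upper s ∈ H}
      zero_mem' := by
        show upper 0 ∈ H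
        rw [PLocalB.upper_zero]; exact one_mem H
      add_mem' := fun {x y} hx hy => by
        show upper (x + y) ∈ H
        rw [← PLocalB.upper_mul]; exact mul_mem hx hy
      neg_mem' := fun {x} hx => by
        show upper (-x) ∈ H
        rw [← PLocalB.upper_inv]; exact inv_mem hx }
  let G : Set Fq := {s | ∃ x ∈ S, ∃ c' : F₀, c' + D.σ₀ c' = 0 ∧
    (s : F) = c * (c' : F) * (f (emb x) u * f u (emb x))}
  let U := AddSubgroup.closure G
  have hG : G ⊆ Uu := by
    rintro s ⟨x, hx, c', hc', hs⟩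
    have hiso := D.f_emb_zero (hSiso x hx x hx)
    have hRx : emb x - (f (emb x) u / a) • ε₁ ∈ R := by
      refine ⟨sub_mem (hmemS x hx) (SF.smul_mem _ (hmemS e₀ he₀)), ?_⟩
      show f (emb x - (f (emb x) u / a) • ε₁) u = 0
      rw [hsub_left hf, hf.smul_left, hε₁, ← ha, div_mul_cancel₀ _ ha0, sub_self]
    refine ⟨ut f (emb x) c', D.ut_mem (hSiso x hx x hx) hc', fun z hz => ?_, ?_, ?_⟩
    · rw [ut_mulVec hf hiso, hSFiso z (hR hz).1 _ (hmemS x hx), mul_zero, zero_smul, add_zero]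
    · rw [ut_mulVec hf hiso, hSFiso _ (hmemS e₀ he₀) _ (hmemS x hx), mul_zero]
      simp
    · rw [ut_mulVec hf hiso, hε₂, hf.smul_left]
      convert R.smul_mem ((c' : F) * (κ * f u (emb x))) hRx using 1
      rw [show ((upper s 0 1 : Fq) : F) = s by simp, show ((upper s 1 1 : Fq) : F) = 1 by simp, hs,
        hκ]
      match_scalars <;> field_simp <;> ring
  have hU : ∀ s ∈ U, upper s ∈ H := fun s hs => (AddSubgroup.closure_le Uu).2 hG hs
  have hsmul : ∀ k ∈ Fq₀, ∀ s ∈ U, k * s ∈ U := by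
    intro k hk s hs
    induction hs using AddSubgroup.closure_induction with
    | mem s hs =>
      obtain ⟨x, hx, c', hc', hs⟩ := hs
      refine AddSubgroup.subset_closure ⟨x, hx, ⟨((k : Fq) : F), hk⟩ * c', ?_, ?_⟩
      · rw [map_mul, show D.σ₀ ⟨((k : Fq) : F), hk⟩ = ⟨((k : Fq) : F), hk⟩ from
          Subtype.ext ((D.σ₀_coe _).trans k.2), ← mul_add, hc', mul_zero]
      · push_cast
        rw [hs]; ring
    | zero => rw [mul_zero]; exact zero_mem _
    | add x y _ _ hx hy => rw [mul_add]; exact add_mem hx hy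
    | neg x _ hx => rw [mul_neg]; exact neg_mem hx
  have hS : Nat.card S = q₀ ^ 6 := by
    rw [Module.natCard_eq_pow_finrank (K := F₀) (V := S), hS3, hF₀sq, ← pow_mul]
  have hreal : ∀ x y : ι → F₀, c * (c₀ : F) *
      (f (emb x) u * f u (emb y) + f (emb y) u * f u (emb x)) ∈ Fq := by
    intro x y
    show σ _ = _
    rw [map_mul, map_mul, map_add, map_mul, map_mul, ← hf.herm, ← hf.herm, ← hf.herm, ← hf.herm,
      eq_neg_of_add_eq_zero_right hc, eq_neg_of_add_eq_zero_right hc₀']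
    ring
  have hgen : ∀ x ∈ S, ∃ s ∈ U, (s : F) = c * (c₀ : F) * (f (emb x) u * f u (emb x)) := by
    intro x hx
    have hm : c * (c₀ : F) * (f (emb x) u * f u (emb x)) ∈ Fq := by
      show σ _ = _
      rw [map_mul, map_mul, map_mul, ← hf.herm, ← hf.herm, eq_neg_of_add_eq_zero_right hc,
        eq_neg_of_add_eq_zero_right hc₀']
      ring
    exact ⟨⟨_, hm⟩, AddSubgroup.subset_closure ⟨x, hx, c₀, hc₀, rfl⟩, rfl⟩
  let ψ : S →+ Fq := AddMonoidHom.mk'
    (fun y => ⟨_, hreal e₀ y⟩) fun y y' => Subtype.ext (by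
      push_cast
      simp only [emb_add, hf.add_left, hadd_right hf]
      ring)
  have hψU : ∀ y, ψ y ∈ U := by
    intro y
    obtain ⟨s1, hs1, e1⟩ := hgen (e₀ + y) (add_mem he₀ y.2)
    obtain ⟨s2, hs2, e2⟩ := hgen e₀ he₀
    obtain ⟨s3, hs3, e3⟩ := hgen y y.2
    convert sub_mem (sub_mem hs1 hs2) hs3 using 1
    refine Subtype.ext ?_
    push_cast
    rw [e1, e2, e3, emb_add, hf.add_left, hadd_right hf]
    show c * (c₀ : F) * _ = _
    ring
  have hker : Nat.card ψ.ker ≤ q₀ ^ 3 := by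
    let Φ : ψ.ker × ψ.ker → S := fun p => (p.1 : S) + (⟨l, hlF⟩ : F₀) • (p.2 : S)
    have hΦ : Function.Injective Φ := by
      rintro ⟨y, y'⟩ ⟨z, z'⟩ h
      have h' : ((y : S) - (z : S)) = (⟨l, hlF⟩ : F₀) • ((z' : S) - (y' : S)) := by
        rw [smul_sub, sub_eq_sub_iff_add_eq_add, add_comm ((⟨l, hlF⟩ : F₀) • (z' : S))]
        exact h
      set w : S := (z' : S) - (y' : S) with hw
      have hw1 : ψ w = 0 := by
        rw [hw, map_sub, show ψ (z' : S) = 0 from z'.2, show ψ (y' : S) = 0 from y'.2, sub_zero]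
      have hw2 : ψ ((⟨l, hlF⟩ : F₀) • w) = 0 := by
        rw [← h', map_sub, show ψ (y : S) = 0 from y.2, show ψ (z : S) = 0 from z.2, sub_zero]
      have h1 : c * (c₀ : F) * (a * f u (emb (w : ι → F₀)) + f (emb (w : ι → F₀)) u * f u ε₁) = 0 :=
        congrArg Subtype.val hw1
      have h2 : c * (c₀ : F) * (a * f u (emb (((⟨l, hlF⟩ : F₀) • w : S) : ι → F₀)) +
          f (emb (((⟨l, hlF⟩ : F₀) • w : S) : ι → F₀)) u * f u ε₁) = 0 := congrArg Subtype.val hw2
      rw [Submodule.coe_smul, emb_smul, hsmul_right hf, hf.smul_left] at h2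
      have hcc : c * (c₀ : F) ≠ 0 := mul_ne_zero hc0 hc₀0'
      have h1' := (mul_eq_zero.1 h1).resolve_left hcc
      have h2' := (mul_eq_zero.1 h2).resolve_left hcc
      have h4 : (σ l - l) * (a * f u (emb (w : ι → F₀))) = 0 := by
        linear_combination h2' - l * h1'
      have h5 : f u (emb (w : ι → F₀)) = 0 :=
        ((mul_eq_zero.1 ((mul_eq_zero.1 h4).resolve_left (sub_ne_zero.2 hlne))).resolve_left ha0)
      have hw0 : w = 0 := Subtype.ext (hSinj _ w.2 (hswap_zero hf h5))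
      rw [hw0, smul_zero, sub_eq_zero] at h'
      exact Prod.ext (Subtype.ext h') (Subtype.ext (sub_eq_zero.1 hw0).symm)
    have := Nat.card_le_card_of_injective Φ hΦ
    rw [Nat.card_prod, hS, show q₀ ^ 6 = q₀ ^ 3 * q₀ ^ 3 by rw [← pow_add]] at this
    exact Nat.mul_self_le_mul_self_iff.1 this
  have hUcard : q₀ ^ 3 ≤ Nat.card U := by
    have h1 := ψ.ker.card_mul_index
    rw [AddSubgroup.index_ker, hS] at h1
    have h2 : Nat.card ψ.range ≤ Nat.card U := by
      refine AddSubgroup.card_le_of_le ?_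
      rintro _ ⟨y, rfl⟩; exact hψU y
    have h3 := Nat.mul_le_mul hker h2
    rw [h1, show q₀ ^ 6 = q₀ ^ 3 * q₀ ^ 3 by rw [← pow_add]] at h3
    exact Nat.le_of_mul_le_mul_left h3 (pow_pos (by omega) _)
  obtain ⟨p, hp⟩ := CharP.exists F
  have : Fact p.Prime := ⟨CharP.char_is_prime F p⟩
  have : CharP Fq p := Fq.subtype.charP Subtype.val_injective p
  have hpq : p ≤ q₀ := by
    have : CharP Fq₀ p := Fq₀.subtype.charP Subtype.val_injective p
    have := Fintype.ofFinite Fq₀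
    obtain ⟨m, hm⟩ := FiniteField.card Fq₀ p
    rw [hq₀def, Nat.card_eq_fintype_card, hm.2]
    exact Nat.le_self_pow m.2.ne' p
  have hq3 : q₀ * 4 ≤ q₀ ^ 3 := by
    rw [show q₀ ^ 3 = q₀ * q₀ ^ 2 by rw [← pow_succ']]
    exact Nat.mul_le_mul_left _ (by simpa using Nat.pow_le_pow_left hq₀ 2)
  have hnr : ∃ s ∈ U, (1 : Fq) * s ∉ Fq₀ := by
    by_contra h
    push Not at h
    have : Nat.card U ≤ q₀ := Nat.card_le_card_of_injective
      (fun s : U => (⟨s, by simpa using h s s.2⟩ : Fq₀))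
      fun s t hst => Subtype.ext (congrArg Subtype.val hst :)
    omega
  have hfull := SubfieldMax.sl2_full p Fq₀ (prime_index Fq₀ hr hFq) H U hU hsmul (by omega)
    (by omega) hlow hnr
  -- a torus element
  obtain ⟨m, hm0, hm1, hm2⟩ : ∃ m : Fq, m ≠ 0 ∧ m ≠ 1 ∧ m ≠ -1 := by
    have := Fintype.ofFinite Fq
    have h4 : 4 ≤ Fintype.card Fq := by
      rw [← Nat.card_eq_fintype_card, hFq]
      exact le_trans (Nat.pow_le_pow_left hq₀ 2) (Nat.pow_le_pow_right (by omega) (by omega))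
    obtain ⟨m, -, hm⟩ := Finset.exists_mem_notMem_of_card_lt_card
      (s := ({0, 1, -1} : Finset Fq)) (t := Finset.univ) (by
        rw [Finset.card_univ]
        exact lt_of_le_of_lt (Finset.card_le_three (a := (0 : Fq))) (by omega))
    simp only [Finset.mem_insert, Finset.mem_singleton, not_or] at hm
    exact ⟨m, hm⟩
  obtain ⟨g, hg, l', hl1, hgR, hgε⟩ : ∃ g ∈ L, ∃ l' : F, l' ≠ 1 ∧
      (∀ z ∈ R, (g : Matrix ι ι F) *ᵥ z = z) ∧
      (g : Matrix ι ι F) *ᵥ ε₁ - l' • ε₁ ∈ R := by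
    let A : SL(2, Fq) := ⟨!![m, 0; 0, m⁻¹], by simp [Matrix.det_fin_two, hm0]⟩
    rcases hfull A with ⟨g, hg, gR, g1, -⟩ | ⟨g, hg, gR, g1, -⟩
    · exact ⟨g, hg, m, fun h => hm1 (Subtype.ext h), gR, by simpa [A] using g1⟩
    · have e' : ((-A : SL(2, Fq)) : Matrix (Fin 2) (Fin 2) Fq) = -!![m, 0; 0, m⁻¹] :=
        Matrix.SpecialLinearGroup.coe_neg A
      rw [e'] at g1
      refine ⟨g, hg, -(m : F), fun h => hm2 (Subtype.ext ?_), gR, by simpa using g1⟩
      push_cast
      rw [← h, neg_neg]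
  set v := (g : Matrix ι ι F) *ᵥ ε₁ - ε₁ with hv
  have hvS : v ∈ SF := by
    have := add_mem (hR hgε).1 (SF.smul_mem (l' - 1) (hmemS e₀ he₀))
    convert this using 1
    rw [hv]; module
  have hv0 : v ≠ 0 := by
    intro h0
    have h2 := (hR hgε).2
    rw [show (g : Matrix ι ι F) *ᵥ ε₁ - l' • ε₁ = (1 - l') • ε₁ by
      rw [sub_eq_zero.1 (hv ▸ h0 :)]; module, hf.smul_left, hε₁, ← ha] at h2
    exact hl1 (sub_eq_zero.1 ((mul_eq_zero.1 h2).resolve_right ha0)).symm
  have hgy : ∀ y ∈ S, (g : Matrix ι ι F) *ᵥ emb y = emb y + (f (emb y) u / a) • v := by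
    intro y hy
    have hRy : emb y - (f (emb y) u / a) • ε₁ ∈ R := by
      refine ⟨sub_mem (hmemS y hy) (SF.smul_mem _ (hmemS e₀ he₀)), ?_⟩
      show f (emb y - (f (emb y) u / a) • ε₁) u = 0
      rw [hsub_left hf, hf.smul_left, hε₁, ← ha, div_mul_cancel₀ _ ha0, sub_self]
    have h1 := hgR _ hRy
    rw [mulVec_sub, mulVec_smul, sub_eq_iff_eq_add] at h1
    rw [h1, hv]; module
  -- some image of a rational vector is irrational
  obtain ⟨y, hyS, hy0, hyirr⟩ : ∃ y ∈ S, y ≠ 0 ∧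
      Irr f F₀ ((g : Matrix ι ι F) *ᵥ emb y) c₀ := by
    by_contra hall
    push Not at hall
    have hray : ∀ y ∈ S, y ≠ 0 → ∃ (β : F) (z : ι → F₀), β ≠ 0 ∧
        (g : Matrix ι ι F) *ᵥ emb y = β • emb z := fun y hy hy0 => by
      obtain ⟨β, z, hβ, -, h⟩ := exists_ray D
        (mulVec_ne_zero g fun e => hy0 (emb_injective (e.trans emb_zero.symm))) c₀.2 hc₀0'
        (hall y hy hy0)
      exact ⟨β, z, hβ, h⟩
    obtain ⟨y₂, hy₂, hind⟩ : ∃ y₂ ∈ S, y₂ ∉ Submodule.span F₀ {e₀} := by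
      by_contra h
      push Not at h
      have h1 := Submodule.finrank_mono (fun y hy => h y hy : S ≤ Submodule.span F₀ {e₀})
      rw [finrank_span_singleton he₀0, hS3] at h1
      omega
    have hy₂0 : y₂ ≠ 0 := fun e => hind (e ▸ zero_mem _)
    obtain ⟨β, z₁, hβ, hz₁⟩ := hray e₀ he₀ he₀0
    obtain ⟨β₂, z₂, hβ₂, hz₂⟩ := hray y₂ hy₂ hy₂0
    obtain ⟨β₃, z₃, -, hz₃⟩ := hray (e₀ + y₂) (add_mem he₀ hy₂) fun e =>
      hind ((eq_neg_of_add_eq_zero_right e) ▸ neg_mem (Submodule.mem_span_singleton_self e₀))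
    set ω := f (emb y₂) u / a with hω
    have hωn : ω ∉ F₀ := fun hm => hind (Submodule.mem_span_singleton.2 ⟨⟨ω, hm⟩, by
      have h1 : f (emb (y₂ - (⟨ω, hm⟩ : F₀) • e₀)) u = 0 := by
        rw [emb_sub, emb_smul, hsub_left hf, hf.smul_left, ← ha,
          show (((⟨ω, hm⟩ : F₀) : F)) = f (emb y₂) u / a from hω, div_mul_cancel₀ _ ha0, sub_self]
      exact (sub_eq_zero.1 (hSinj _ (sub_mem hy₂ (S.smul_mem _ he₀)) h1)).symm⟩)
    -- the two scalars are rationally proportional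
    obtain ⟨d, hd⟩ : ∃ d : F₀, β₂ = β * d := by
      have hz₁0 : z₁ ≠ 0 := fun e => by
        rw [e, emb_zero, smul_zero] at hz₁
        exact mulVec_ne_zero g (fun h => he₀0 (emb_injective (h.trans emb_zero.symm))) hz₁
      have hn12 : z₂ ∉ Submodule.span F₀ {z₁} := fun hm => by
        obtain ⟨s, rfl⟩ := Submodule.mem_span_singleton.1 hm
        have h1 : emb y₂ = (β₂ * (s : F) / β) • emb e₀ := mulVec_injective g (by
          show (g : Matrix ι ι F) *ᵥ emb y₂ = (g : Matrix ι ι F) *ᵥ _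
          rw [hz₂, mulVec_smul, hz₁, emb_smul, smul_smul, smul_smul, div_mul_cancel₀ _ hβ])
        obtain ⟨i, hi⟩ := Function.ne_iff.1 he₀0
        have hi' : (e₀ i : F) ≠ 0 := fun h => hi (Subtype.ext h)
        have h2 : β₂ * (s : F) / β ∈ F₀ := by
          have h3 : (y₂ i : F) = β₂ * (s : F) / β * (e₀ i : F) := congrFun h1 i
          rw [← mul_div_cancel_right₀ (β₂ * (s : F) / β) hi', ← h3]
          exact div_mem (y₂ i).2 (e₀ i).2
        exact hind (Submodule.mem_span_singleton.2 ⟨⟨_, h2⟩, emb_injective h1.symm⟩)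
      obtain ⟨w₂, hw₂, hw₂'⟩ := exists_dual D.hf₀ hn12
      have hn21 : z₁ ∉ Submodule.span F₀ {z₂} := fun hm => by
        obtain ⟨s, hs⟩ := Submodule.mem_span_singleton.1 hm
        exact hn12 (Submodule.mem_span_singleton.2 ⟨s⁻¹, by
          rw [← hs, smul_smul, inv_mul_cancel₀ fun h => hz₁0 (by rw [← hs, h, zero_smul]),
            one_smul]⟩)
      obtain ⟨w₁, hw₁, hw₁'⟩ := exists_dual D.hf₀ hn21
      have hsum : β₃ • emb z₃ = β • emb z₁ + β₂ • emb z₂ := by
        rw [← hz₃, ← hz₁, ← hz₂, emb_add, mulVec_add]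
      have e1 := congrArg (fun w => f (emb w₁) w) hsum
      have e2 := congrArg (fun w => f (emb w₂) w) hsum
      simp only [hadd_right hf, hsmul_right hf, D.f_emb, hw₁, hw₂,
        (hw₁' z₂ (Submodule.mem_span_singleton_self _)).1,
        (hw₂' z₁ (Submodule.mem_span_singleton_self _)).1, ZeroMemClass.coe_zero,
        OneMemClass.coe_one, mul_zero, mul_one, add_zero, zero_add] at e1 e2
      have hp : (D.f₀ w₁ z₃ : F) ≠ 0 := fun h => by
        rw [h, mul_zero] at e1
        exact (map_ne_zero σ).2 hβ e1.symm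
      refine ⟨D.σ₀ (D.f₀ w₂ z₃ / D.f₀ w₁ z₃), σ.injective ?_⟩
      rw [map_mul, ← e1, ← e2, D.σ₀_coe, hf.involutive]
      push_cast
      field_simp
    set z₂' := d • z₂ with hz₂'
    have hz₂'' : (g : Matrix ι ι F) *ᵥ emb y₂ = β • emb z₂' := by
      rw [hz₂, hd, hz₂', emb_smul, smul_smul]
    have hφ₁ : β • emb z₁ - emb e₀ = v := by rw [← hz₁, hv, hε₁]
    have hφ₂ : β • emb z₂' - emb y₂ = ω • v := by
      rw [← hz₂'', hgy y₂ hy₂, add_sub_cancel_left, hω]
    have hrel : ∀ w : ι → F₀, ω * (β * (D.f₀ z₁ w : F) - D.f₀ e₀ w) =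
        β * (D.f₀ z₂' w : F) - D.f₀ y₂ w := by
      intro w
      rw [← D.f_emb, ← D.f_emb, ← D.f_emb, ← D.f_emb, ← hf.smul_left, ← hsub_left hf,
        ← hf.smul_left β, ← hsub_left hf, hφ₁, hφ₂, hf.smul_left]
    have hβF : β ∈ F₀ := by
      have hn' : e₀ ∉ Submodule.span F₀ {y₂} := fun hm => by
        obtain ⟨s, hs⟩ := Submodule.mem_span_singleton.1 hm
        exact hind (Submodule.mem_span_singleton.2 ⟨s⁻¹, by
          rw [← hs, smul_smul, inv_mul_cancel₀ fun h => he₀0 (by rw [← hs, h, zero_smul]),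
            one_smul]⟩)
      obtain ⟨w₁, hw₁, hw₁'⟩ := exists_dual D.hf₀ hn'
      obtain ⟨w₂, hw₂, hw₂'⟩ := exists_dual D.hf₀ hind
      have e1 := hrel w₁
      have e2 := hrel w₂
      rw [D.hf₀.herm e₀ w₁, hw₁, map_one,
        (hw₁' y₂ (Submodule.mem_span_singleton_self _)).2] at e1
      rw [D.hf₀.herm y₂ w₂, hw₂, map_one,
        (hw₂' e₀ (Submodule.mem_span_singleton_self _)).2] at e2
      simp only [ZeroMemClass.coe_zero, OneMemClass.coe_one, sub_zero] at e1 e2
      refine mem_of_quadratic hr (by omega) hq (x := β)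
        (p := D.f₀ z₁ w₁ * D.f₀ z₂' w₂ - D.f₀ z₁ w₂ * D.f₀ z₂' w₁)
        (q := -(D.f₀ z₁ w₁ + D.f₀ z₂' w₂)) (s := 1) one_ne_zero ?_
      push_cast
      linear_combination (β * (D.f₀ z₁ w₂ : F)) * e1 - (β * (D.f₀ z₁ w₁ : F) - 1) * e2
    -- hence `v = 0`
    refine hv0 ?_
    by_contra hv0'
    obtain ⟨w, hw⟩ : ∃ w : ι → F₀, f v (emb w) ≠ 0 := by
      by_contra h
      push Not at h
      obtain ⟨z, hz⟩ := eq_emb_of_values D (v := v) fun w => by rw [h]; exact zero_mem _
      by_cases hz0 : z = 0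
      · exact hv0' (by rw [hz, hz0, emb_zero])
      obtain ⟨w, hw⟩ := (D.hf₀.nondegenerate z hz0).2
      exact hw (Subtype.ext ((D.f_emb z w).symm.trans (hz ▸ h w)))
    have h1 := hrel w
    have e : f v (emb w) = β * (D.f₀ z₁ w : F) - D.f₀ e₀ w := by
      rw [← hφ₁, hsub_left hf, hf.smul_left, D.f_emb, D.f_emb]
    rw [← e] at h1
    refine hωn ?_
    rw [← mul_div_cancel_right₀ ω hw, h1, e]
    exact div_mem (sub_mem (mul_mem hβF (D.f₀ z₂' w).2) (D.f₀ y₂ w).2)
      (sub_mem (mul_mem hβF (D.f₀ z₁ w).2) (D.f₀ e₀ w).2)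
  set x := (g : Matrix ι ι F) *ᵥ emb y with hx
  have hxS : x ∈ SF := by
    rw [hx, hgy y hyS]; exact add_mem (hmemS y hyS) (SF.smul_mem _ hvS)
  have hxiso := hSFiso x hxS x hxS
  have hT' : ut f x c₀ ∈ L := by
    have := mul_mem (mul_mem hg (D.ut_mem (hSiso y hyS y hyS) hc₀)) (inv_mem hg)
    rwa [ut_conj hf (D.f_emb_zero (hSiso y hyS y hyS)) _ (D.isom_of_mem hg)] at this
  refine centres_of_kernel D hn (prime_index F₀ hr hq) hxiso hc₀' hT' hyirr ?_
  have hle : S ≤ LinearMap.ker (val D x) := fun y hy => by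
    rw [LinearMap.mem_ker, val_apply]
    exact hSFiso _ (hmemS y hy) x hxS
  have h1 := LinearMap.finrank_range_add_finrank_ker (val D x)
  rw [Module.finrank_fintype_fun_eq_card] at h1
  have h2 := Submodule.finrank_mono hle
  omega

end Cfsg.Agent.MaxSub.SubfieldHerm
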