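import Cfsg.Agent.MaxSub.SubfieldHerm.Generic
import Cfsg.Agent.MaxSub.HermStabStd

/-!
Odd-degree subfield subgroups of the unitary groups are maximal.
-/

set_option autoImplicit false

namespace Cfsg.Agent.MaxSub.SubfieldHerm

open Matrix Cfsg.Agent.HermStab
open scoped Classical

variable {ι : Type} [Fintype ι] [DecidableEq ι] {F : Type*} [Field F]
variable {σ : F ≃+* F} {f : (ι → F) → (ι → F) → F} {F₀ : Subfield F} {L : Subgroup (GL ι F)}

theorem exists_irr (D : Data σ f F₀ L) [Finite F] (hn : 6 ≤ Fintype.card ι) {h : GL ι F}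
    (hh : h ∈ isom f) {c : F} (hc : c ∈ F₀) (hc0 : c ≠ 0)
    (hnot : ¬ ∃ s : F, s ≠ 0 ∧ ∀ i j, (h : Matrix ι ι F) i j / s ∈ F₀) :
    ∃ e : ι → F₀, D.f₀ e e = 0 ∧ Irr f F₀ ((h : Matrix ι ι F) *ᵥ emb e) c := by
  by_contra hall
  push Not at hall
  obtain ⟨e₁, he₁, hee, -⟩ := exists_generic D.hf₀ (⊥ : Submodule F₀ (ι → F₀)) (by simp; omega)
  simp only [Submodule.mem_bot] at he₁
  obtain ⟨f₁, hf1, hff, -⟩ := exists_dual_iso D.hf₀ (⊥ : Submodule F₀ (ι → F₀)) (a := e₁)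
    (by simpa using he₁) (by simp; omega)
  have hray : ∀ e : ι → F₀, e ≠ 0 → D.f₀ e e = 0 → ∃ (β : F) (y : ι → F₀),
      β ≠ 0 ∧ σ β * β ∈ F₀ ∧ (h : Matrix ι ι F) *ᵥ emb e = β • emb y := fun e he0 he =>
    exists_ray D (mulVec_ne_zero h fun e0 => he0 (emb_injective (e0.trans emb_zero.symm))) hc hc0
      (hall e he)
  obtain ⟨s, y₁, hs, hNs, hy₁⟩ := hray e₁ he₁ hee
  refine hnot ⟨s, hs, ?_⟩
  -- isotropic vectors not orthogonal to `e₁`
  have key : ∀ e : ι → F₀, D.f₀ e e = 0 → D.f₀ e e₁ ≠ 0 →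
      ∃ y : ι → F₀, (h : Matrix ι ι F) *ᵥ emb e = s • emb y := by
    intro e he hee₁
    have he0 : e ≠ 0 := fun e0 => hee₁ (by rw [e0, hzero_left D.hf₀])
    obtain ⟨β, y, hβ, -, hy⟩ := hray e he0 he
    have h1 : f ((h : Matrix ι ι F) *ᵥ emb e) ((h : Matrix ι ι F) *ᵥ emb e₁) = D.f₀ e e₁ := by
      rw [mem_isom.mp hh, D.f_emb]
    rw [hy, hy₁, D.hf.smul_left, hsmul_right D.hf, D.f_emb] at h1
    have hne : (D.f₀ y y₁ : F) ≠ 0 := fun h0 => hee₁ (Subtype.ext (by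
      rw [← h1, h0]; simp))
    have hq : β / s ∈ F₀ := by
      have : β / s = (D.f₀ e e₁ : F) / ((σ s * s) * (D.f₀ y y₁ : F)) := by
        rw [← h1]
        have := (map_ne_zero σ).2 hs
        field_simp
      rw [this]
      exact div_mem (D.f₀ e e₁).2 (mul_mem hNs (D.f₀ y y₁).2)
    refine ⟨(⟨β / s, hq⟩ : F₀) • y, ?_⟩
    rw [hy, emb_smul, smul_smul, mul_div_cancel₀ _ hs]
  have hf1' : D.f₀ e₁ f₁ = 1 := by rw [D.hf₀.herm, hf1, map_one]
  have hfix : ∀ a : ι → F₀, D.σ₀ (D.f₀ a a) = D.f₀ a a := fun a => (D.hf₀.herm a a).symm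
  have hevery : ∀ x : ι → F₀, ∃ y : ι → F₀, (h : Matrix ι ι F) *ᵥ emb x = s • emb y := by
    intro x
    by_cases hx : D.f₀ x e₁ = 0
    · have hrx : D.σ₀ (-(D.f₀ x x + D.f₀ x f₁ + D.f₀ f₁ x)) =
          -(D.f₀ x x + D.f₀ x f₁ + D.f₀ f₁ x) := by
        rw [map_neg, map_add, map_add, ← D.hf₀.herm, ← D.hf₀.herm, ← D.hf₀.herm]; ring
      obtain ⟨t, ht⟩ := exists_trace D.hf₀ hrx
      have hz : D.f₀ (x + f₁ + t • e₁) (x + f₁ + t • e₁) = 0 := by
        simp only [D.hf₀.add_left, hadd_right D.hf₀, D.hf₀.smul_left, hsmul_right D.hf₀, hx,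
          hswap_zero D.hf₀ hx, hff, hee, hf1, hf1']
        linear_combination ht
      obtain ⟨a, ha⟩ := key _ hz (by
        simp [D.hf₀.add_left, D.hf₀.smul_left, hx, hee, hf1])
      obtain ⟨b, hb⟩ := key f₁ hff (by rw [hf1]; exact one_ne_zero)
      refine ⟨a - b - t • y₁, ?_⟩
      rw [emb_add, emb_add, emb_smul, mulVec_add, mulVec_add, mulVec_smul, hb, hy₁] at ha
      rw [emb_sub, emb_sub, emb_smul, smul_sub, smul_sub, ← ha]
      module
    · obtain ⟨t', ht'⟩ := exists_trace D.hf₀ (r := -D.f₀ x x) (by rw [map_neg, hfix])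
      set α := D.f₀ x e₁ with hα
      have hα' : D.σ₀ α ≠ 0 := (map_ne_zero D.σ₀).2 hx
      set t := t' / D.σ₀ α with ht
      have hz : D.f₀ (x + t • e₁) (x + t • e₁) = 0 := by
        simp only [D.hf₀.add_left, hadd_right D.hf₀, D.hf₀.smul_left, hsmul_right D.hf₀, hee,
          D.hf₀.herm e₁ x, ← hα, ht, map_div₀, D.hf₀.involutive]
        field_simp
        linear_combination α * D.σ₀ α * ht'
      obtain ⟨a, ha⟩ := key _ hz (by simp [D.hf₀.add_left, D.hf₀.smul_left, hee, ← hα, hx])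
      refine ⟨a - t • y₁, ?_⟩
      rw [emb_add, emb_smul, mulVec_add, mulVec_smul, hy₁] at ha
      rw [emb_sub, emb_smul, smul_sub, ← ha]
      module
  intro i j
  obtain ⟨y, hy⟩ := hevery (Pi.single j 1)
  have he : emb (Pi.single j (1 : F₀)) = Pi.single j (1 : F) := funext fun l => by
    show ((Pi.single j (1 : F₀) : ι → F₀) l : F) = _
    rw [Pi.single_apply, Pi.single_apply]
    split_ifs <;> rfl
  rw [he, mulVec_single_one] at hy
  have := congrFun hy i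
  simp only [Matrix.col_apply, Pi.smul_apply, smul_eq_mul] at this
  rw [this, mul_div_cancel_left₀ _ hs]
  exact (y i).2

theorem all_centres_of_irr [Fintype F] (D : Data σ f F₀ L) (hn : 6 ≤ Fintype.card ι) {r : ℕ}
    (hr : r.Prime) (hq : Nat.card F = Nat.card F₀ ^ r) {u : ι → F} (hu : f u u = 0) {c : F}
    (hc : c + σ c = 0) (hc0 : c ≠ 0) (hT : ut f u c ∈ L) (hirr : Irr f F₀ u c) :
    ∀ x, f x x = 0 → Centre σ f L x := by
  rcases le_or_gt (Module.finrank F₀ (LinearMap.range (val D u)) + 2) (Fintype.card ι) with h | h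
  · exact centres_of_kernel D hn (prime_index F₀ hr hq) hu hc hT hirr h
  · exact centres_of_generic D hn hr hq hu hc hc0 hT h

theorem exists_rat_mat (F₀ : Subfield F) {k : GL ι F}
    (h : ∀ i j, (k : Matrix ι ι F) i j ∈ F₀) :
    k ∈ (Matrix.GeneralLinearGroup.map (F₀.subtype : F₀ →+* F)).range := by
  let B : Matrix ι ι F₀ := fun i j => ⟨_, h i j⟩
  have hB : B.map F₀.subtype = (k : Matrix ι ι F) := rfl
  have hdet : B.det ≠ 0 := fun e => by
    have := congrArg Matrix.det hB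
    rw [← RingHom.mapMatrix_apply, ← RingHom.map_det, e, map_zero] at this
    exact ((Matrix.isUnit_iff_isUnit_det _).1 k.isUnit).ne_zero this.symm
  exact ⟨Matrix.GeneralLinearGroup.mkOfDetNeZero B hdet, Units.ext hB⟩

theorem exists_scaled {k : GL ι F}
    (h : k ∈ (Matrix.GeneralLinearGroup.map (F₀.subtype : F₀ →+* F)).range ⊔
      Geo.scalars ι F) : ∃ s : F, s ≠ 0 ∧ ∀ i j, (k : Matrix ι ι F) i j / s ∈ F₀ := by
  have := Geo.scalars_normal (ι := ι) (F := F)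
  obtain ⟨y, ⟨B, rfl⟩, z, hz, rfl⟩ := Subgroup.mem_sup_of_normal_right.1 h
  obtain ⟨s, hs⟩ := (Geo.mem_scalars_iff z).1 hz
  refine ⟨s, s.ne_zero, fun i j => ?_⟩
  rw [Units.val_mul, hs, Matrix.mul_smul, Matrix.mul_one, Matrix.smul_apply, smul_eq_mul,
    mul_div_cancel_left₀ _ s.ne_zero]
  exact SetLike.coe_mem _

end Cfsg.Agent.MaxSub.SubfieldHerm
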