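import Cfsg.Agent.MaxSub.SubfieldHerm.Descent

/-!
The fixed field of an involution of a finite field and subfields of prime index.
-/

set_option autoImplicit false

namespace Cfsg.Agent.MaxSub.SubfieldHerm

variable {F : Type*} [Field F]

/-- The fixed field of `σ`. -/
def realPart (σ : F ≃+* F) : Subfield F where
  carrier := {x | σ x = x}
  zero_mem' := map_zero σ
  one_mem' := map_one σ
  add_mem' {x y} hx hy := show σ (x + y) = x + y by rw [map_add, hx, hy]
  mul_mem' {x y} hx hy := show σ (x * y) = x * y by rw [map_mul, hx, hy]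
  neg_mem' {x} hx := show σ (-x) = -x by rw [map_neg, hx]
  inv_mem' x hx := show σ x⁻¹ = x⁻¹ by rw [map_inv₀, hx]

theorem mem_realPart {σ : F ≃+* F} {x : F} : x ∈ realPart σ ↔ σ x = x := Iff.rfl

theorem card_eq_sq {σ : F ≃+* F} (hσ : ∀ x, σ (σ x) = x) (T : Subfield F)
    (hT : ∀ x ∈ T, σ x ∈ T) {l : F} (hl : l ∈ T) (hne : σ l ≠ l) :
    Nat.card T = Nat.card (T ⊓ realPart σ : Subfield F) ^ 2 := by
  have hd : l - σ l ≠ 0 := sub_ne_zero.2 (Ne.symm hne)
  rw [sq, ← Nat.card_prod]
  refine (Nat.card_congr (Equiv.ofBijective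
    (fun p : (T ⊓ realPart σ : Subfield F) × (T ⊓ realPart σ : Subfield F) =>
      (⟨(p.1 : F) + l * p.2, add_mem p.1.2.1 (mul_mem hl p.2.2.1)⟩ : T)) ⟨?_, ?_⟩)).symm
  · rintro ⟨a, b⟩ ⟨a', b'⟩ h
    have h1 : (a : F) + l * b = a' + l * b' := congrArg Subtype.val h
    have h2 := congrArg σ h1
    rw [map_add, map_add, map_mul, map_mul, mem_realPart.1 a.2.2, mem_realPart.1 a'.2.2,
      mem_realPart.1 b.2.2, mem_realPart.1 b'.2.2] at h2
    have hb : (b : F) = b' := by
      have : ((b : F) - b') * (l - σ l) = 0 := by linear_combination h1 - h2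
      exact sub_eq_zero.1 ((mul_eq_zero.1 this).resolve_right hd)
    refine Prod.ext (Subtype.ext ?_) (Subtype.ext hb)
    rw [hb] at h1
    exact add_right_cancel h1
  · rintro ⟨x, hx⟩
    set b := (x - σ x) / (l - σ l) with hb
    have hbr : σ b = b := by
      rw [hb, map_div₀, map_sub, map_sub, hσ, hσ, ← neg_sub x, ← neg_sub l, neg_div_neg_eq]
    have hbT : b ∈ T := div_mem (sub_mem hx (hT x hx)) (sub_mem hl (hT l hl))
    have har : σ (x - l * b) = x - l * b := by
      rw [map_sub, map_mul, hbr]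
      have : b * (l - σ l) = x - σ x := div_mul_cancel₀ _ hd
      linear_combination this
    exact ⟨⟨⟨x - l * b, sub_mem hx (mul_mem hl hbT), har⟩, ⟨b, hbT, hbr⟩⟩,
      Subtype.ext (sub_add_cancel x (l * b))⟩

theorem prime_index [Finite F] (F₀ : Subfield F) {r : ℕ} (hr : r.Prime)
    (hq : Nat.card F = Nat.card F₀ ^ r) (T : Subfield F) (hT : F₀ ≤ T) : T = F₀ ∨ T = ⊤ := by
  have hq₀ : 2 ≤ Nat.card F₀ := Finite.one_lt_card
  letI : Algebra F₀ T := (Subfield.inclusion hT).toAlgebra
  have : IsScalarTower F₀ T F := IsScalarTower.of_algebraMap_eq fun x => rfl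
  have hF : Module.finrank F₀ F = r := by
    have := Module.natCard_eq_pow_finrank (K := F₀) (V := F)
    rw [hq] at this
    exact (Nat.pow_right_injective hq₀ this).symm
  have hmul := Module.finrank_mul_finrank F₀ T F
  rw [hF] at hmul
  rcases hr.eq_one_or_self_of_dvd _ ⟨_, hmul.symm⟩ with h1 | h1
  · left
    refine le_antisymm (fun x hx => ?_) hT
    obtain ⟨c, hc⟩ := (finrank_eq_one_iff_of_nonzero' (1 : T) one_ne_zero).1 h1 ⟨x, hx⟩
    have := congrArg Subtype.val hc
    rw [Algebra.smul_def] at this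
    simp at this
    rw [← this]; exact c.2
  · right
    rw [h1] at hmul
    have h2 : Module.finrank T F = 1 := by
      have := hr.pos
      exact Nat.eq_of_mul_eq_mul_left this (by rw [hmul, mul_one])
    refine eq_top_iff.2 fun x _ => ?_
    obtain ⟨c, hc⟩ := (finrank_eq_one_iff_of_nonzero' (1 : F) one_ne_zero).1 h2 x
    rw [← hc, Algebra.smul_def]
    simp
    exact c.2

end Cfsg.Agent.MaxSub.SubfieldHerm
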