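import Cfsg.Agent.MaxSub.SubfieldHerm.Elem

/-!
From one Siegel element with irrational parameter to all unitary transvections.
-/

set_option autoImplicit false

namespace Cfsg.Agent.MaxSub.SubfieldHerm

open Matrix Cfsg.Agent.HermStab
open scoped Classical

variable {ι : Type} [Fintype ι] [DecidableEq ι] {F : Type*} [Field F]
variable {σ : F ≃+* F} {f : (ι → F) → (ι → F) → F} {F₀ : Subfield F} {L : Subgroup (GL ι F)}

/-- Two independent orthogonal isotropic rational vectors. -/
def Good (D : Data σ f F₀ L) (a b : ι → F₀) : Prop :=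
  D.f₀ a a = 0 ∧ D.f₀ b b = 0 ∧ D.f₀ a b = 0 ∧ b ≠ 0 ∧ a ∉ Submodule.span F₀ {b}

/-- The parameters that occur for all good pairs. -/
def param (D : Data σ f F₀ L) : Set F :=
  {t | ∀ a b, Good D a b → sieg f (emb a) (emb b) t ∈ L}

variable (D : Data σ f F₀ L)

theorem Good.symm {a b : ι → F₀} (h : Good D a b) : Good D b a := by
  obtain ⟨ha, hb, hab, hb0, hnot⟩ := h
  refine ⟨hb, ha, hswap_zero D.hf₀ hab, fun e => hnot (e ▸ zero_mem _), fun hm => ?_⟩
  obtain ⟨s, hs⟩ := Submodule.mem_span_singleton.1 hm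
  refine hnot (Submodule.mem_span_singleton.2 ⟨s⁻¹, ?_⟩)
  rw [← hs, smul_smul, inv_mul_cancel₀ (fun e => hb0 (by rw [← hs, e, zero_smul])), one_smul]

theorem flip_mem {a b : ι → F₀} (h : Good D a b) {t : F}
    (ht : sieg f (emb a) (emb b) t ∈ L) : sieg f (emb b) (emb a) (-σ t) ∈ L := by
  rwa [← sieg_flip D.hf (D.f_emb_zero h.1) (D.f_emb_zero h.2.1) (D.f_emb_zero h.2.2.1)]

theorem finrank_span_list (l : List (ι → F₀)) {n : ℕ} (h : l.length ≤ n) :
    Module.finrank F₀ (Submodule.span F₀ {x | x ∈ l}) ≤ n :=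
  (finrank_span_le_length l).trans h

/-- Moving the first vector of a pair. -/
theorem step [Finite F] (hn : 6 ≤ Fintype.card ι) {a b c : ι → F₀} (hab : Good D a b)
    (hcc : D.f₀ c c = 0) (hcb : D.f₀ c b = 0) (hca : D.f₀ c a = 0)
    (hind : a ∉ Submodule.span F₀ {x | x ∈ [b, c]}) {t s : F}
    (ht : sieg f (emb a) (emb b) t ∈ L)
    (hs : ∀ d : ι → F₀, D.f₀ d d = 0 → D.f₀ c d = 0 → D.f₀ d a = 1 →
      sieg f (emb c) (emb d) s ∈ L) :
    sieg f (emb c) (emb b) (t * s) ∈ L := by
  obtain ⟨ha, hb, hab0, -, -⟩ := hab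
  have hdim := finrank_span_list (F₀ := F₀) [b, c] (n := 2) le_rfl
  obtain ⟨d, hda, hdd, hdU⟩ := exists_dual_iso D.hf₀ _ hind (by omega)
  have hdb := hdU b (Submodule.subset_span (by simp))
  have hdc := hdU c (Submodule.subset_span (by simp))
  have hk := hs d hdd hdc.2 hda
  set k := sieg f (emb c) (emb d) s
  have hfa : f (emb a) (emb d) = 1 := by
    rw [D.hf.herm, D.f_emb, hda]; simp
  have ka : (k : Matrix ι ι F) *ᵥ emb a = emb a + s • emb c := by
    rw [sieg_mulVec D.hf (D.f_emb_zero hdd) (D.f_emb_zero hdc.2), hfa,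
      D.f_emb_zero (hswap_zero D.hf₀ hca)]
    simp
  have kb : (k : Matrix ι ι F) *ᵥ emb b = emb b := by
    rw [sieg_mulVec D.hf (D.f_emb_zero hdd) (D.f_emb_zero hdc.2), D.f_emb_zero hdb.2,
      D.f_emb_zero (hswap_zero D.hf₀ hcb)]
    simp
  have hconj := mul_mem (mul_mem hk ht) (inv_mem hk)
  have h2 : f (t • emb a) (emb b) = 0 := by rw [D.hf.smul_left, D.f_emb_zero hab0, mul_zero]
  rw [sieg, qe_conj D.hf (D.f_emb_zero hb) h2 0 (D.isom_of_mem hk), mulVec_smul, ka, kb,
    smul_add, smul_smul, sieg_add_left D.hf (D.f_emb_zero hb) (D.f_emb_zero hab0)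
      (D.f_emb_zero hcb) (D.f_emb_zero hca)] at hconj
  exact (Subgroup.mul_mem_cancel_left L ht).1 hconj

theorem step_one [Finite F] (hn : 6 ≤ Fintype.card ι) {a b c : ι → F₀} (hab : Good D a b)
    (hcc : D.f₀ c c = 0) (hcb : D.f₀ c b = 0) (hca : D.f₀ c a = 0)
    (hind : a ∉ Submodule.span F₀ {x | x ∈ [b, c]}) {t : F}
    (ht : sieg f (emb a) (emb b) t ∈ L) : sieg f (emb c) (emb b) t ∈ L := by
  have := step D hn hab hcc hcb hca hind ht (s := 1) fun d hd hcd _ =>
    D.sieg_mem hd hcd hcc 1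
  rwa [mul_one] at this

theorem notMem_pair {x y z : ι → F₀} {U : Submodule F₀ (ι → F₀)} (hx : x ∈ U) (hy : y ∈ U)
    (hz : z ∉ U) (h : x ∉ Submodule.span F₀ {y}) : x ∉ Submodule.span F₀ {w | w ∈ [y, z]} := by
  intro hm
  have e : {w | w ∈ [y, z]} = ({y, z} : Set (ι → F₀)) := by ext; simp
  rw [e, Submodule.mem_span_pair] at hm
  obtain ⟨p, q, hpq⟩ := hm
  rcases eq_or_ne q 0 with hq | hq
  · exact h (Submodule.mem_span_singleton.2 ⟨p, by rw [← hpq, hq, zero_smul, add_zero]⟩)
  · refine hz ?_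
    have : z = q⁻¹ • (x - p • y) := by
      rw [← hpq, add_sub_cancel_left, smul_smul, inv_mul_cancel₀ hq, one_smul]
    rw [this]
    exact U.smul_mem _ (U.sub_mem hx (U.smul_mem _ hy))

/-- Moving the first vector of a pair to any vector orthogonal to the second. -/
theorem move [Finite F] (hn : 6 ≤ Fintype.card ι) {a b c : ι → F₀} (hab : Good D a b)
    (hcb : Good D c b) {t : F} (ht : sieg f (emb a) (emb b) t ∈ L) :
    sieg f (emb c) (emb b) t ∈ L := by
  obtain ⟨ha, hb, hab0, hb0, hnot⟩ := id hab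
  obtain ⟨hc, -, hcb0, -, hnot'⟩ := id hcb
  by_cases hdir : D.f₀ c a = 0 ∧ a ∉ Submodule.span F₀ {x | x ∈ [b, c]}
  · exact step_one D hn hab hc hcb0 hdir.1 hdir.2 ht
  -- a vector orthogonal to `a`, `b` and `c`
  obtain ⟨d, U, hd, hdd, hdU, haU, hbU, hcU⟩ : ∃ (d : ι → F₀) (U : Submodule F₀ (ι → F₀)),
      d ∉ U ∧ D.f₀ d d = 0 ∧ (∀ x ∈ U, D.f₀ d x = 0 ∧ D.f₀ x d = 0) ∧ a ∈ U ∧ b ∈ U ∧
        c ∈ U := by
    by_cases hca : D.f₀ c a = 0
    · have hdim := finrank_span_list (F₀ := F₀) [b, c] (n := 2) le_rfl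
      obtain ⟨d, h1, h2, h3⟩ :=
        exists_generic D.hf₀ (Submodule.span F₀ {x | x ∈ [b, c]}) (by omega)
      exact ⟨d, _, h1, h2, h3, not_not.1 fun h => hdir ⟨hca, h⟩,
        Submodule.subset_span (by simp), Submodule.subset_span (by simp)⟩
    · set U := Submodule.span F₀ {x | x ∈ [a, b, c]} with hU
      have hdim : Module.finrank F₀ U ≤ 3 := finrank_span_list _ le_rfl
      have haU : a ∈ U := Submodule.subset_span (by simp)
      have hcU : c ∈ U := Submodule.subset_span (by simp)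
      have hrad : U ⊓ perp D.hf₀ U ≤ Submodule.span F₀ {b} := by
        intro x hx
        have e3 : {x | x ∈ [a, b, c]} = ({a, b, c} : Set (ι → F₀)) := by ext; simp
        have hx1 := hx.1
        rw [hU, e3, SetLike.mem_coe, Submodule.mem_span_triple] at hx1
        obtain ⟨p, q, r, rfl⟩ := hx1
        have h1 := (mem_perp D.hf₀).1 hx.2 a haU
        have h2 := (mem_perp D.hf₀).1 hx.2 c hcU
        simp only [D.hf₀.add_left, D.hf₀.smul_left, ha, hc, hswap_zero D.hf₀ hab0,
          hswap_zero D.hf₀ hcb0, mul_zero, zero_add, add_zero, mul_eq_zero] at h1 h2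
        have hr : r = 0 := h1.resolve_right hca
        have hp : p = 0 := h2.resolve_right fun h => hca (hswap_zero D.hf₀ h)
        rw [hp, hr, zero_smul, zero_smul, zero_add, add_zero]
        exact Submodule.smul_mem _ q (Submodule.mem_span_singleton_self b)
      have h1 := Submodule.finrank_mono hrad
      rw [finrank_span_singleton hb0] at h1
      have h2 := card_le_perp D.hf₀ U
      obtain ⟨d, hd, hdn, hdd⟩ := exists_iso_notMem D.hf₀ (K := perp D.hf₀ U) (U := U) (by omega)
      exact ⟨d, U, hdn, hdd, fun x hx => ⟨(mem_perp D.hf₀).1 hd x hx,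
        hswap_zero D.hf₀ ((mem_perp D.hf₀).1 hd x hx)⟩, haU,
        Submodule.subset_span (by simp), hcU⟩
  have h1 := step_one D hn hab hdd (hdU b hbU).1 (hdU a haU).1 (notMem_pair haU hbU hd hnot) ht
  have G1 : Good D d b := ⟨hdd, hb, (hdU b hbU).1, hb0, fun hm =>
    hd ((Submodule.span_singleton_le_iff_mem _ _).2 hbU hm)⟩
  exact step_one D hn G1 hc hcb0 (hdU c hcU).2 (fun hm => hd (Submodule.span_le.2 (by
      intro x hx
      simp only [List.mem_cons, List.not_mem_nil, or_false, Set.mem_ofPred_eq] at hx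
      rcases hx with rfl | rfl <;> assumption) hm)) h1

theorem connect [Finite F] (hn : 6 ≤ Fintype.card ι) {a b a' b' : ι → F₀} (hab : Good D a b)
    (hab' : Good D a' b') {t : F} (ht : sieg f (emb a) (emb b) t ∈ L) :
    sieg f (emb a') (emb b') (-σ t) ∈ L := by
  set U := Submodule.span F₀ {x | x ∈ [b, a']} with hU
  have hd := finrank_span_list (F₀ := F₀) [b, a'] (n := 2) le_rfl
  obtain ⟨g, hg, hgg, hgU⟩ := exists_generic D.hf₀ U (by rw [hU]; omega)
  have mb : b ∈ U := Submodule.subset_span (by simp)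
  have ma : a' ∈ U := Submodule.subset_span (by simp)
  obtain ⟨-, hbb, -, hb0, -⟩ := id hab
  obtain ⟨ha', -, -, -, hnot'⟩ := id hab'
  have G1 : Good D g b := ⟨hgg, hbb, (hgU b mb).1, hb0, fun hm =>
    hg ((Submodule.span_singleton_le_iff_mem _ _).2 mb hm)⟩
  have G2 : Good D g a' := ⟨hgg, ha', (hgU a' ma).1, fun e => hnot' (e ▸ zero_mem _), fun hm =>
    hg ((Submodule.span_singleton_le_iff_mem _ _).2 ma hm)⟩
  have h1 := flip_mem D G1 (move D hn hab G1 ht)
  have h2 := flip_mem D (G2.symm D) (move D hn (G1.symm D) (G2.symm D) h1)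
  rw [map_neg, D.hf.involutive, neg_neg] at h2
  exact flip_mem D (hab'.symm D) (move D hn G2 (hab'.symm D) h2)

theorem mem_param_of_one [Finite F] (hn : 6 ≤ Fintype.card ι) {a b : ι → F₀}
    (hab : Good D a b) {t : F} (ht : sieg f (emb a) (emb b) t ∈ L) : t ∈ param D := by
  intro a' b' h'
  have := connect D hn (hab.symm D) h' (flip_mem D hab ht)
  rwa [map_neg, D.hf.involutive, neg_neg] at this

theorem exists_good [Finite F] (hn : 6 ≤ Fintype.card ι) {e : ι → F₀} (he : D.f₀ e e = 0) :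
    ∃ z, D.f₀ z z = 0 ∧ D.f₀ z e = 0 ∧ z ∉ Submodule.span F₀ {e} := by
  have := finrank_span_list (F₀ := F₀) [e] (n := 1) le_rfl
  have hs : Submodule.span F₀ {x | x ∈ [e]} = Submodule.span F₀ {e} := by congr 1; ext; simp
  rw [hs] at this
  obtain ⟨z, hz, hzz, hzU⟩ := exists_generic D.hf₀ (Submodule.span F₀ {e}) (by omega)
  exact ⟨z, hzz, (hzU e (Submodule.mem_span_singleton_self e)).1, hz⟩

theorem param_eq_univ [Fintype F] (hn : 6 ≤ Fintype.card ι)
    (htop : ∀ T : Subfield F, F₀ ≤ T → T = F₀ ∨ T = ⊤) {a b : ι → F₀} (hab : Good D a b)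
    {t₀ : F} (ht₀ : sieg f (emb a) (emb b) t₀ ∈ L) (hnr : t₀ ∉ F₀) : ∀ t, t ∈ param D := by
  have hF₀ : ∀ x ∈ F₀, x ∈ param D := fun x hx a b h =>
    D.sieg_mem h.2.1 h.2.2.1 h.1 (⟨x, hx⟩ : F₀)
  let R : Subring F :=
    { carrier := param D
      one_mem' := hF₀ 1 (one_mem _)
      zero_mem' := hF₀ 0 (zero_mem _)
      add_mem' := fun {x y} hx hy a b h => by
        have h1 := qe_add D.hf (D.f_emb_zero h.2.1) (w₁ := x • emb a) (w₂ := y • emb a)
          (by rw [D.hf.smul_left, D.f_emb_zero h.2.2.1, mul_zero])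
          (by rw [D.hf.smul_left, D.f_emb_zero h.2.2.1, mul_zero]) 0 0
        rw [← add_smul, D.hf.smul_left, hsmul_right D.hf, D.f_emb_zero h.1, mul_zero, mul_zero,
          add_zero, sub_zero] at h1
        show qe f (emb b) ((x + y) • emb a) 0 ∈ L
        rw [← h1]
        exact mul_mem (hx a b h) (hy a b h)
      neg_mem' := fun {x} hx a b h => by
        have hg : Good D (-a) b := by
          obtain ⟨h1, h2, h3, h4, h5⟩ := h
          refine ⟨?_, h2, ?_, h4, fun hm => h5 (neg_mem_iff.1 hm)⟩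
          · rw [← neg_one_smul F₀ a, D.hf₀.smul_left, hsmul_right D.hf₀, h1]; simp
          · rw [← neg_one_smul F₀ a, D.hf₀.smul_left, h3, mul_zero]
        have := hx (-a) b hg
        rwa [← neg_one_smul F₀ a, emb_smul, sieg_smul_left,
          show x * ((-1 : F₀) : F) = -x by simp] at this
      mul_mem' := fun {x y} hx hy a b h => by
        obtain ⟨g, hgg, hgb, hgn⟩ := exists_good D hn h.2.1
        have := finrank_span_list (F₀ := F₀) [b, g] (n := 2) le_rfl
        obtain ⟨c, hc, hcc, hcU⟩ := exists_generic D.hf₀ (Submodule.span F₀ {w | w ∈ [b, g]})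
          (by omega)
        have hg : Good D g b := ⟨hgg, h.2.1, hgb, h.2.2.2.1, hgn⟩
        have hcb := (hcU b (Submodule.subset_span (by simp))).1
        have hcg := (hcU g (Submodule.subset_span (by simp))).1
        have hc' : Good D c b := ⟨hcc, h.2.1, hcb, h.2.2.2.1, fun hm => hc
          ((Submodule.span_singleton_le_iff_mem _ _).2 (Submodule.subset_span (by simp)) hm)⟩
        have hbm : (b : ι → F₀) ∈ Submodule.span F₀ {w | w ∈ [b, g]} :=
          Submodule.subset_span (by simp)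
        have h1 := step D hn hg hcc hcb hcg
          (notMem_pair (Submodule.subset_span (by simp)) hbm hc hgn) (hx g b hg)
          (s := y) fun d hdd hcd hdg => hy c d ⟨hcc, hdd, hcd, fun e => by
            simp [e, hzero_left D.hf₀] at hdg, fun hm => by
            obtain ⟨q, rfl⟩ := Submodule.mem_span_singleton.1 hm
            rw [D.hf₀.smul_left, hdg, mul_one] at hcg
            exact hc (by rw [hcg, zero_smul]; exact zero_mem _)⟩
        exact mem_param_of_one D hn hc' h1 a b h }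
  let T : Subfield F :=
    { R with
      inv_mem' := fun x hx => by
        rcases eq_or_ne x 0 with rfl | h0
        · rw [_root_.inv_zero]; exact R.zero_mem
        · have h : x ^ (Fintype.card F - 2) = x⁻¹ := by
            have hq := Fintype.one_lt_card (α := F)
            apply eq_inv_of_mul_eq_one_left
            rw [← pow_succ, show Fintype.card F - 2 + 1 = Fintype.card F - 1 by omega,
              FiniteField.pow_card_sub_one_eq_one x h0]
          rw [← h]
          exact R.pow_mem hx _ }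
  have ht : t₀ ∈ T := mem_param_of_one D hn hab ht₀
  have hT : T = ⊤ := (htop T hF₀).resolve_left fun e => hnr (e ▸ ht)
  exact fun t => (hT ▸ Subfield.mem_top t : t ∈ T)

theorem ut_split {a b : ι → F} (hf : Geo.IsUnitaryForm σ f) (ha : f a a = 0) (hb : f b b = 0)
    (hab : f a b = 0) {c : F} (hc : c + σ c = 0) (s : F) :
    ut f (a + s • b) c = ut f a c * ut f b (c * σ s * s) * sieg f a b (c * σ s) := by
  have h0 : f (a + s • b) (a + s • b) = 0 := by
    simp [hf.add_left, hadd_right hf, hf.smul_left, hsmul_right hf, ha, hb, hab,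
      hswap_zero hf hab]
  refine gl_ext fun x => ?_
  rw [ut_mulVec hf h0, Units.val_mul, Units.val_mul, ← mulVec_mulVec, ← mulVec_mulVec,
    sieg_mulVec hf hb hab, ut_mulVec hf hb, ut_mulVec hf ha, map_mul, hf.involutive,
    show σ c = -c from eq_neg_of_add_eq_zero_right hc]
  simp only [hf.add_left, hf.smul_left, hsub_left hf, hadd_right hf, hsmul_right hf, ha, hb, hab,
    hswap_zero hf hab]
  module

theorem centre_emb [Finite F] (hn : 6 ≤ Fintype.card ι) (hall : ∀ t, t ∈ param D)
    {e : ι → F₀} (he : D.f₀ e e = 0) (he0 : e ≠ 0) : Centre σ f L (emb e) := by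
  refine ⟨D.f_emb_zero he, fun c hc => ?_⟩
  obtain ⟨e₂, h22, h2e, h2n⟩ := exists_good D hn he
  have hg : Good D e₂ e := ⟨h22, he, h2e, he0, h2n⟩
  have hs : Module.finrank F₀ (Submodule.span F₀ {e}) ≤ 1 := (finrank_span_singleton he0).le
  obtain ⟨d, hd2, hdd, hdU⟩ := exists_dual_iso D.hf₀ (Submodule.span F₀ {e}) h2n (by omega)
  have hde := (hdU e (Submodule.mem_span_singleton_self e)).1
  obtain ⟨c₀, hc0, hc₀⟩ := exists_skew D.hf₀
  have hc₀' : (c₀ : F) + σ c₀ = 0 := by rw [← D.σ₀_coe]; exact congrArg Subtype.val hc₀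
  have hc0' : (c₀ : F) ≠ 0 := fun h => hc0 (Subtype.ext h)
  obtain ⟨s, hs'⟩ := exists_norm D.hf (r := c / (c₀ : F)) (by
    rw [map_div₀, eq_neg_of_add_eq_zero_right hc, eq_neg_of_add_eq_zero_right hc₀', neg_div_neg_eq])
  have hk : sieg f (emb e) (emb e₂) s ∈ L := hall s e e₂ (hg.symm D)
  have hke : (sieg f (emb e) (emb e₂) s : Matrix ι ι F) *ᵥ emb d = emb d + s • emb e := by
    rw [sieg_mulVec D.hf (D.f_emb_zero h22) (D.f_emb_zero (hswap_zero D.hf₀ h2e)), D.f_emb, hd2,
      D.f_emb_zero hde]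
    simp
  have hconj := mul_mem (mul_mem hk (D.ut_mem hdd hc₀)) (inv_mem hk)
  have hgd : Good D d e := ⟨hdd, he, hde, he0, fun hm => by
    obtain ⟨q, rfl⟩ := Submodule.mem_span_singleton.1 hm
    rw [D.hf₀.smul_left, hswap_zero D.hf₀ h2e, mul_zero] at hd2
    exact zero_ne_one hd2⟩
  rw [ut_conj D.hf (D.f_emb_zero hdd) _ (D.isom_of_mem hk), hke,
    ut_split D.hf (D.f_emb_zero hdd) (D.f_emb_zero he) (D.f_emb_zero hde) hc₀',
    Subgroup.mul_mem_cancel_right L (hall _ d e hgd),
    Subgroup.mul_mem_cancel_left L (D.ut_mem hdd hc₀)] at hconj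
  rwa [mul_assoc, hs', mul_div_cancel₀ _ hc0'] at hconj

/-- In any dimension, a centre `e` with its whole radical and a centre not orthogonal to it give all centres. -/
theorem centre_of_radical_any [Finite F] (hf : Geo.IsUnitaryForm σ f) {M : Subgroup (GL ι F)}
    {e : ι → F} (hce : Centre σ f M e)
    (hrad : ∀ w b, f w e = 0 → b + σ b = -f w w → qe f e w b ∈ M)
    {y : ι → F} (hyc : Centre σ f M y) (hye : f y e ≠ 0) :
    ∀ v, f v v = 0 → Centre σ f M v := by
  classical
  have hee := hce.1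
  -- everything not orthogonal to `e`
  have step : ∀ v, f v v = 0 → f v e ≠ 0 → Centre σ f M v := by
    intro v hv hve
    set y' := (f v e / f y e) • y with hy'
    have hy'c : Centre σ f M y' := centre_smul hf hyc _
    set s := f v e with hs
    have hy'e : f y' e = s := by rw [hy', hf.smul_left, div_mul_cancel₀ _ hye]
    set w := s⁻¹ • (v - y') with hw
    have hwe : f w e = 0 := by rw [hw, hf.smul_left, hsub_left hf, hy'e, ← hs, sub_self, mul_zero]
    obtain ⟨b, hb⟩ := exists_trace hf (r := -f w w) (by rw [map_neg, ← hf.herm])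
    have hk : qe f e w b ∈ M := hrad w b hwe hb
    have h1 := centre_map hf hy'c hk (qe_mem_su hf hee hwe hb).1
    set δ := b * s - f y' w with hδ
    have himg : (qe f e w b : Matrix ι ι F) *ᵥ y' = v + δ • e := by
      rw [qe_mulVec hf hee hwe, hy'e, hδ, hw, smul_smul, mul_inv_cancel₀ hve, one_smul]
      module
    rw [himg] at h1
    have hv1 := h1.1
    rw [hf.add_left, hadd_right hf, hadd_right hf, hf.smul_left, hsmul_right hf, hf.smul_left,
      hsmul_right hf, hee, hv, ← hs, hf.herm e v, ← hs] at hv1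
    have hc : -δ / s + σ (-δ / s) = 0 := by
      have : σ s ≠ 0 := (map_ne_zero σ).mpr hve
      rw [map_div₀, map_neg]
      field_simp
      linear_combination -hv1
    have h2 := centre_move hf hce h1 hc
    rw [hf.add_left, hf.smul_left, hee, mul_zero, add_zero, ← hs, div_mul_cancel₀ _ hve] at h2
    rwa [neg_smul, add_neg_cancel_right] at h2
  intro v hv
  by_cases hve : f v e ≠ 0
  · exact step v hv hve
  simp only [not_not] at hve
  by_cases hv0 : v = 0
  · rw [hv0]; exact centre_zero hf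
  by_cases hvs : v ∈ Submodule.span F {e}
  · obtain ⟨r, rfl⟩ := Submodule.mem_span_singleton.mp hvs
    exact centre_smul hf hce r
  have he0 : e ≠ 0 := fun h => hye (by rw [h, hzero_right hf])
  have hev : e ∉ Submodule.span F {v} := fun h => by
    obtain ⟨r, hr⟩ := Submodule.mem_span_singleton.mp h
    exact hvs (Submodule.mem_span_singleton.mpr ⟨r⁻¹, by
      rw [← hr, smul_smul, inv_mul_cancel₀ fun h0 => he0 (by rw [← hr, h0, zero_smul]), one_smul]⟩)
  obtain ⟨z₁, hz₁, hz₁e⟩ := exists_dual hf hvs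
  obtain ⟨z₂, hz₂, hz₂v⟩ := exists_dual hf hev
  obtain ⟨t, ht⟩ := exists_trace hf (r := -f (z₁ + z₂) (z₁ + z₂))
    (by rw [map_neg, ← hf.herm])
  have h1e : f (z₁ + z₂) e = 1 := by
    rw [hf.add_left, hz₂, (hz₁e e (Submodule.mem_span_singleton_self e)).1, zero_add]
  have h1v : f (z₁ + z₂) v = 1 := by
    rw [hf.add_left, hz₁, (hz₂v v (Submodule.mem_span_singleton_self v)).1, add_zero]
  set z := z₁ + z₂ + t • e with hzdef
  have hzz : f z z = 0 := by
    rw [hzdef, hf.add_left (z₁ + z₂), hadd_right hf (z₁ + z₂), hadd_right hf (t • e),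
      hf.smul_left, hsmul_right hf, hf.smul_left, hsmul_right hf, hee, h1e, hf.herm e (z₁ + z₂),
      h1e, map_one]
    linear_combination ht
  have hze : f z e = 1 := by
    rw [hzdef, hf.add_left (z₁ + z₂), hf.smul_left, h1e, hee, mul_zero, add_zero]
  have hzv : f z v = 1 := by
    rw [hzdef, hf.add_left (z₁ + z₂), hf.smul_left, h1v, hswap_zero hf hve, mul_zero, add_zero]
  obtain ⟨c, hc0, hc⟩ := exists_skew hf
  have hzC : Centre σ f M z := step z hzz (by rw [hze]; exact one_ne_zero)
  have hk := hzC.2 c hc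
  have hki := ut_mem_isom hf hzz hc
  have h1 := centre_map hf (step _ ((mem_isom.mp hki v v).trans hv) (by
    rw [ut_mulVec hf hzz, hf.add_left, hf.smul_left, hve, zero_add, hze, mul_one]
    exact mul_ne_zero hc0 (hswap_ne_zero hf (by rw [hzv]; exact one_ne_zero))))
    (inv_mem hk) (inv_mem hki)
  rwa [inv_mulVec_mulVec] at h1

theorem all_centres [Finite F] (hn : 6 ≤ Fintype.card ι) (hall : ∀ t, t ∈ param D) :
    ∀ v, f v v = 0 → Centre σ f L v := by
  obtain ⟨e, he0, hee, -⟩ := exists_generic D.hf₀ (⊥ : Submodule F₀ (ι → F₀)) (by simp; omega)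
  simp only [Submodule.mem_bot] at he0
  have hce := centre_emb D hn hall hee he0
  have hhe : f (emb e) (emb e) = 0 := D.f_emb_zero hee
  obtain ⟨y, hye, hyy, -⟩ := exists_dual_iso D.hf₀ (⊥ : Submodule F₀ (ι → F₀)) (a := e)
    (by simpa using he0) (by simp; omega)
  have hy0 : y ≠ 0 := fun h => by simp [h, hzero_left D.hf₀] at hye
  refine centre_of_radical_any D.hf hce (fun w b hwe hb => ?_)
    (centre_emb D hn hall hyy hy0) (by rw [D.f_emb, hye]; simp)
  let P : AddSubgroup (ι → F) :=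
    { carrier := {w | f w (emb e) = 0 ∧ ∃ b, b + σ b = -f w w ∧ qe f (emb e) w b ∈ L}
      zero_mem' := ⟨hzero_left D.hf _, 0, by simp [hzero_left D.hf], by
        rw [qe_zero_eq_ut D.hf hhe]; exact hce.2 0 (by simp)⟩
      add_mem' := by
        rintro u v ⟨hu, bu, hbu, mu⟩ ⟨hv, bv, hbv, mv⟩
        refine ⟨by rw [D.hf.add_left, hu, hv, add_zero], bu + bv - f v u, ?_, ?_⟩
        · rw [map_sub, map_add, ← D.hf.herm, D.hf.add_left, hadd_right D.hf, hadd_right D.hf]
          linear_combination hbu + hbv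
        · rw [← qe_add D.hf hhe hu hv]; exact mul_mem mu mv
      neg_mem' := by
        rintro u ⟨hu, bu, hbu, mu⟩
        have hnu : f (-u) (emb e) = 0 := by rw [← neg_one_smul F u, D.hf.smul_left, hu, mul_zero]
        have hnn : f (-u) (-u) = f u u := by
          rw [← neg_one_smul F u, D.hf.smul_left, hsmul_right D.hf]; simp
        refine ⟨hnu, σ bu, by rw [hnn, D.hf.involutive]; linear_combination hbu, ?_⟩
        have h1 : qe f (emb e) u bu * qe f (emb e) (-u) (σ bu) = ut f (emb e) 0 := by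
          rw [qe_add D.hf hhe hu hnu, add_neg_cancel, qe_zero_eq_ut D.hf hhe,
            ← neg_one_smul F u, D.hf.smul_left]
          congr 1
          linear_combination hbu
        have h0 : ut f (emb e) 0 ∈ L := hce.2 0 (by simp)
        rw [← h1] at h0
        exact (Subgroup.mul_mem_cancel_left L mu).1 h0 }
  -- scalar multiples of rational isotropic vectors
  have hiso : ∀ a : ι → F₀, D.f₀ a a = 0 → D.f₀ a e = 0 → ∀ t : F, t • emb a ∈ P := by
    intro a ha hae t
    have h1 : f (t • emb a) (emb e) = 0 := by rw [D.hf.smul_left, D.f_emb_zero hae, mul_zero]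
    refine ⟨h1, 0, ?_, ?_⟩
    · rw [D.hf.smul_left, hsmul_right D.hf, D.f_emb_zero ha]; simp
    by_cases hspan : a ∈ Submodule.span F₀ {e}
    · obtain ⟨q, rfl⟩ := Submodule.mem_span_singleton.1 hspan
      have : qe f (emb e) (t • emb (q • e)) 0 = ut f (emb e) (t * q - σ (t * q)) :=
        gl_ext fun x => by
          rw [qe_mulVec D.hf hhe h1, ut_mulVec D.hf hhe, emb_smul]
          simp only [smul_smul, hsmul_right D.hf, map_mul]
          module
      rw [this]
      exact hce.2 _ (by rw [map_sub, D.hf.involutive]; ring)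
    · exact hall t a e ⟨ha, hee, hae, he0, hspan⟩
  have hrat : ∀ a : ι → F₀, D.f₀ a e = 0 → ∀ t : F, t • emb a ∈ P := by
    intro a hae t
    by_cases hspan : a ∈ Submodule.span F₀ {e}
    · refine hiso a ?_ hae t
      obtain ⟨q, rfl⟩ := Submodule.mem_span_singleton.1 hspan
      simp [D.hf₀.smul_left, hsmul_right D.hf₀, hee]
    have hs : Module.finrank F₀ (Submodule.span F₀ {e}) ≤ 1 := (finrank_span_singleton he0).le
    obtain ⟨z, hza, hzz, hzU⟩ := exists_dual_iso D.hf₀ (Submodule.span F₀ {e}) hspan (by omega)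
    have hze := (hzU e (Submodule.mem_span_singleton_self e)).1
    obtain ⟨s, hs'⟩ := exists_trace D.hf₀ (r := -D.f₀ a a) (by rw [map_neg, ← D.hf₀.herm])
    have hy : D.f₀ (a + s • z) (a + s • z) = 0 := by
      rw [D.hf₀.add_left, hadd_right D.hf₀, hadd_right D.hf₀, D.hf₀.smul_left,
        hsmul_right D.hf₀, D.hf₀.smul_left, hsmul_right D.hf₀, hzz, hza, D.hf₀.herm a z, hza,
        map_one]
      linear_combination hs'
    have := sub_mem (hiso (a + s • z) hy
      (by rw [D.hf₀.add_left, D.hf₀.smul_left, hae, hze, mul_zero, add_zero]) t)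
      (hiso z hzz hze (t * s))
    rwa [emb_add, emb_smul, smul_add, smul_smul, add_sub_cancel_right] at this
  have hwP : w ∈ P := by
    have hw : w = ∑ i, w i • emb (Pi.single i (1 : F₀) - D.f₀ (Pi.single i 1) e • y) := by
      have hsum : ∑ i, w i • emb (Pi.single i (1 : F₀) - D.f₀ (Pi.single i 1) e • y) =
          w - f w (emb e) • emb y := by
        have he1 : ∀ i, emb (Pi.single i (1 : F₀)) = Pi.single i (1 : F) := fun i => funext fun l => by
          show ((Pi.single i (1 : F₀) : ι → F₀) l : F) = _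
          rw [Pi.single_apply, Pi.single_apply]
          split_ifs <;> rfl
        have h1 : ∑ i, w i • (Pi.single i (1 : F) : ι → F) = w := (pi_eq_sum_univ' w).symm
        have h2 : f w (emb e) = ∑ i, w i * f (Pi.single i (1 : F)) (emb e) := by
          conv_lhs => rw [← h1, ← hl_apply D.hf, map_sum]
          simp [D.hf.smul_left]
        rw [h2, Finset.sum_smul]
        simp only [emb_sub, emb_smul, he1, smul_sub, smul_smul, Finset.sum_sub_distrib]
        rw [h1]
        congr 1
        exact Finset.sum_congr rfl fun i _ => by rw [← D.f_emb, he1]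
      rw [hsum, hwe, zero_smul, sub_zero]
    rw [hw]
    refine sum_mem fun i _ => hrat _ ?_ _
    rw [hsub_left D.hf₀, D.hf₀.smul_left, hye, mul_one, sub_self]
  obtain ⟨-, b₀, hb₀, hm⟩ := hwP
  have hd : b - b₀ + σ (b - b₀) = 0 := by rw [map_sub]; linear_combination hb - hb₀
  have h2 := mul_mem hm (hce.2 _ hd)
  rw [← qe_zero_eq_ut D.hf hhe, qe_add D.hf hhe hwe (hzero_left D.hf _), add_zero,
    hzero_left D.hf, sub_zero, add_sub_cancel] at h2
  exact h2

end Cfsg.Agent.MaxSub.SubfieldHerm
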